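import Cfsg.Agent.Lib.CharApps.Palfy.Dual

/-!
Three primes: the case of an abelian minimal normal subgroup with a complement.
-/

set_option autoImplicit false

namespace CfsgLib.CharApps.Palfy

open Cfsg CfsgLib.CharsMore

theorem exists_hom_apply_ne_one {A : Type*} [Group A] [Finite A] (hA : ∀ a b : A, a * b = b * a)
    {a : A} (ha : a ≠ 1) : ∃ μ : A →* ℂˣ, μ a ≠ 1 := by
  letI : CommGroup A := { (inferInstance : Group A) with mul_comm := hA }
  exact FullyRamified.exists_hom_ne_one ha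

variable {G : Type*} [Group G] [Fintype G]

/-- An abelian normal subgroup with index prime to `q` forbids degrees divisible by `q`. -/
theorem false_of_abelian_normal {q : ℕ} (P : Subgroup G) [P.Normal]
    (hab : ∀ a ∈ P, ∀ b ∈ P, a * b = b * a) (hi : ¬ q ∣ P.index)
    (hqd : ∃ χ : IrrCharacter G, q ∣ charDegree (χ : G → ℂ)) : False := by
  classical
  haveI := Fintype.ofFinite P
  obtain ⟨χ, hχ⟩ := hqd
  obtain ⟨k, hk, hdvd⟩ := ito_degree_dvd (N := P) hab χ.2
  rw [deg_eq] at hk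
  have hk' : charDegree (χ : G → ℂ) = k := by exact_mod_cast hk
  exact hi ((hk' ▸ hχ).trans hdvd)

variable [Group.IsSolvable G]

/-- The case of a complemented abelian normal subgroup. -/
theorem false_of_complement {t : ℕ} [Fact t.Prime] {s q r : ℕ} (hs : s.Prime) (hq : q.Prime)
    (hr : r.Prime) (hsq : s ≠ q) (hsr : s ≠ r) (hqr : q ≠ r) (N L : Subgroup G) [N.Normal]
    (hL : N.IsComplement' L) (hab : ∀ a ∈ N, ∀ b ∈ N, a * b = b * a)
    (hexp : ∀ a ∈ N, a ^ t = 1) (hne : N ≠ ⊥)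
    (hsd : ∀ μ : N →* ℂˣ, μ ≠ 1 → s ∣ (inertia N (linFun μ)).index)
    (hnsq : ∀ χ : IrrCharacter G, ¬ s * q ∣ charDegree (χ : G → ℂ))
    (hnsr : ∀ χ : IrrCharacter G, ¬ s * r ∣ charDegree (χ : G → ℂ))
    (hnqr : ∀ χ : IrrCharacter G, ¬ q * r ∣ charDegree (χ : G → ℂ))
    (hqd : ∃ χ : IrrCharacter G, q ∣ charDegree (χ : G → ℂ))
    (hrd : ∃ χ : IrrCharacter G, r ∣ charDegree (χ : G → ℂ)) : False := by
  classical
  letI : CommGroup N :=
    { (inferInstance : Group N) with mul_comm := fun a b => Subtype.ext (hab a a.2 b b.2) }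
  haveI : Finite (N →* ℂˣ) :=
    Finite.of_equiv N (CommGroup.monoidHom_mulEquiv_of_hasEnoughRootsOfUnity N ℂ).some.symm.toEquiv
  letI : Module (ZMod t) (Additive (N →* ℂˣ)) :=
    AddCommGroup.zmodModule (n := t) (G := Additive (N →* ℂˣ)) fun μ => by
    refine Additive.toMul.injective (MonoidHom.ext fun n => ?_)
    change μ.toMul n ^ t = 1
    rw [← map_pow, show n ^ t = 1 from Subtype.ext (hexp n n.2), map_one]
  haveI : Nontrivial (Additive (N →* ℂˣ)) := by
    obtain ⟨n, hn, hn1⟩ := (Subgroup.bot_or_exists_ne_one N).resolve_left hne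
    obtain ⟨μ, hμ⟩ := FullyRamified.exists_hom_ne_one (c := (⟨n, hn⟩ : N))
      fun e => hn1 (congrArg Subtype.val e)
    exact ⟨⟨Additive.ofMul μ, 0, fun e => hμ (by
      rw [show μ = 1 from congrArg Additive.toMul e, MonoidHom.one_apply])⟩⟩
  set R := linOfEnd t (dualConj N L)
  have hgood : ∀ {u : ℕ}, u.Prime → s ≠ u →
      (∀ χ : IrrCharacter G, ¬ s * u ∣ charDegree (χ : G → ℂ)) → Good R u := by
    intro u hu hsu hno v hv
    obtain ⟨μ, rfl⟩ : ∃ μ, Additive.ofMul μ = v := ⟨v.toMul, rfl⟩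
    rw [stab_dual]
    exact good_of_extendible hL (isIrrCharacter_linFun μ) (exists_ext_linear hL μ) hs hu hsu hno
      ((hsd μ fun e => hv (by rw [e]; rfl)).mul_right _)
  have hhalf : ∀ {u : ℕ}, u.Prime → Good R u →
      (∃ χ : IrrCharacter G, u ∣ charDegree (χ : G → ℂ)) → Moves R u := by
    intro u hu hg hd
    by_contra hm
    haveI := Fact.mk hu
    obtain ⟨P⟩ : Nonempty (Sylow u L) := inferInstance
    obtain ⟨hPn, hPc, hPt⟩ := sylow_of_not_moves hg hm P
    haveI := hPn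
    have hcen : ∀ n ∈ N, ∀ l ∈ P, n * (l : G) = (l : G) * n := by
      intro n hn l hl
      have key : conjBy N ((l : L) : G)⁻¹ ⟨n, hn⟩ = ⟨n, hn⟩ := by
        by_contra hne'
        obtain ⟨μ, hμ⟩ := FullyRamified.exists_hom_ne_one
          (c := conjBy N ((l : L) : G)⁻¹ ⟨n, hn⟩ * (⟨n, hn⟩ : N)⁻¹)
          (fun e => hne' (mul_inv_eq_one.1 e))
        have h1 := LinearMap.congr_fun (hPt l hl) (Additive.ofMul μ)
        have h2 : μ (conjBy N ((l : L) : G)⁻¹ ⟨n, hn⟩) = μ ⟨n, hn⟩ :=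
          DFunLike.congr_fun (congrArg Additive.toMul h1) ⟨n, hn⟩
        exact hμ (by rw [map_mul, map_inv, h2, mul_inv_cancel])
      have h3 : (l : G)⁻¹ * n * ((l : G)⁻¹)⁻¹ = n := congrArg Subtype.val key
      rw [inv_inv] at h3
      calc n * (l : G) = (l : G) * ((l : G)⁻¹ * n * l) := by group
        _ = (l : G) * n := by rw [h3]
    let A : Subgroup G := (P : Subgroup L).comap (proj hL)
    haveI : A.Normal := Subgroup.Normal.comap hPn _
    refine false_of_abelian_normal A (fun a ha b hb => ?_) ?_ hd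
    · have e : ∀ g : G, g = (g * (proj hL g : G)⁻¹) * (proj hL g : G) := fun g => by group
      have h1 := hab _ (mul_proj_inv_mem hL a) _ (mul_proj_inv_mem hL b)
      have h2 := hcen _ (mul_proj_inv_mem hL a) _ hb
      have h3 := hcen _ (mul_proj_inv_mem hL b) _ ha
      have h4 : ((proj hL a : L) : G) * (proj hL b : G) = (proj hL b : G) * (proj hL a : G) :=
        congrArg Subtype.val (hPc _ ha _ hb)
      rw [e a, e b]
      exact (Commute.mul_left (Commute.mul_right h1 h2)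
        (Commute.mul_right (Commute.symm h3) h4))
    · change ¬ u ∣ ((P : Subgroup L).comap (proj hL)).index
      rw [Subgroup.index_comap_of_surjective _ fun (l : L) => ⟨(l : G), proj_coe hL l⟩]
      exact P.not_dvd_index
  have hgq := hgood hq hsq hnsq
  have hgr := hgood hr hsr hnsr
  obtain ⟨χ, hχ⟩ := exists_degree R hq hr hqr hgq hgr (hhalf hq hgq hqd) (hhalf hr hgr hrd)
  exact hnqr ⟨_, Chars.isIrrCharacter_comp (proj hL) (fun l => ⟨(l : G), proj_coe hL l⟩) χ.2⟩
    (by simpa [charDegree] using hχ)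

end CfsgLib.CharApps.Palfy
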