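import Cfsg.Agent.Lib.CharApps.Palfy.Setting
import Cfsg.Agent.Lib.CharsMore.Intertwiners
import Cfsg.Agent.Lib.CharsMore.FullyRamified

/-!
Characters of groups of class two: the radical of the pairing of a central character.
-/

set_option autoImplicit false

open scoped commutatorElement

namespace CfsgLib.CharApps.Palfy

open Cfsg CfsgLib.CharsMore Module

variable {P : Type*} [Group P] (hc : commutator P ≤ Subgroup.center P)

include hc in
theorem comm_commutator (a b : commutator P) : a * b = b * a :=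
  Subtype.ext (Subgroup.mem_center_iff.1 (hc b.2) a)

include hc in
theorem commutator_left (a b c : P) : ⁅a * b, c⁆ = ⁅a, c⁆ * ⁅b, c⁆ := by
  have hz : ∀ x y z : P, z * ⁅x, y⁆ = ⁅x, y⁆ * z := fun x y z =>
    Subgroup.mem_center_iff.1 (hc (Subgroup.commutator_mem_commutator (Subgroup.mem_top x)
      (Subgroup.mem_top y))) z
  calc ⁅a * b, c⁆ = a * ⁅b, c⁆ * a⁻¹ * ⁅a, c⁆ := by
        rw [commutatorElement_def, commutatorElement_def, commutatorElement_def]; group
    _ = ⁅b, c⁆ * ⁅a, c⁆ := by rw [hz b c a, mul_inv_cancel_right]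
    _ = ⁅a, c⁆ * ⁅b, c⁆ := (hz b c _).symm

include hc in
theorem commutator_right (a b c : P) : ⁅a, b * c⁆ = ⁅a, b⁆ * ⁅a, c⁆ := by
  have hz : ∀ x y z : P, z * ⁅x, y⁆ = ⁅x, y⁆ * z := fun x y z =>
    Subgroup.mem_center_iff.1 (hc (Subgroup.commutator_mem_commutator (Subgroup.mem_top x)
      (Subgroup.mem_top y))) z
  calc ⁅a, b * c⁆ = ⁅a, b⁆ * (b * ⁅a, c⁆ * b⁻¹) := by
        rw [commutatorElement_def, commutatorElement_def, commutatorElement_def]; group
    _ = ⁅a, b⁆ * ⁅a, c⁆ := by rw [hz a c b, mul_inv_cancel_right]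

/-- The commutator of two elements in the derived subgroup. -/
def cel (x y : P) : commutator P :=
  ⟨⁅x, y⁆, Subgroup.commutator_mem_commutator (Subgroup.mem_top x) (Subgroup.mem_top y)⟩

/-- Commutation with a fixed element, on the abelianization. -/
def brk (x : P) : Abelianization P →* commutator P :=
  letI : CommGroup (commutator P) :=
    { (inferInstance : Group (commutator P)) with mul_comm := comm_commutator hc }
  Abelianization.lift
    { toFun := cel x
      map_one' := Subtype.ext (commutatorElement_one_right x)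
      map_mul' := fun a b => Subtype.ext (commutator_right hc x a b) }

theorem brk_of (x y : P) : brk hc x (Abelianization.of y) = cel x y := rfl

/-- The pairing of a linear character of the derived subgroup. -/
def bil (μ : commutator P →* ℂˣ) : P →* (Abelianization P →* ℂˣ) where
  toFun x := μ.comp (brk hc x)
  map_one' := MonoidHom.ext fun a => by
    induction a using QuotientGroup.induction_on with | _ y => ?_
    change μ (cel 1 y) = 1
    rw [show cel (1 : P) y = 1 from Subtype.ext (commutatorElement_one_left y), map_one]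
  map_mul' a b := MonoidHom.ext fun z => by
    induction z using QuotientGroup.induction_on with | _ y => ?_
    change μ (cel (a * b) y) = μ (cel a y) * μ (cel b y)
    rw [← map_mul]
    exact congrArg μ (Subtype.ext (commutator_left hc a b y))

theorem bil_of (μ : commutator P →* ℂˣ) (x y : P) :
    bil hc μ x (Abelianization.of y) = μ (cel x y) := rfl

/-- The radical of the pairing. -/
abbrev radical (μ : commutator P →* ℂˣ) : Subgroup P := (bil hc μ).ker

theorem mem_radical {μ : commutator P →* ℂˣ} {x : P} :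
    x ∈ radical hc μ ↔ ∀ y : P, μ (cel x y) = 1 := by
  refine ⟨fun h y => DFunLike.congr_fun (MonoidHom.mem_ker.1 h) (Abelianization.of y), fun h => ?_⟩
  refine MonoidHom.mem_ker.2 (MonoidHom.ext fun a => ?_)
  induction a using QuotientGroup.induction_on with | _ y => ?_
  exact h y

theorem commutator_le_radical (μ : commutator P →* ℂˣ) : commutator P ≤ radical hc μ :=
  fun z hz => (mem_radical hc).2 fun y => by
    rw [show cel z y = 1 from Subtype.ext (commutatorElement_eq_one_iff_mul_comm.2
      (Subgroup.mem_center_iff.1 (hc hz) y).symm), map_one]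

omit hc in
/-- A character over an invariant linear character of a normal subgroup. -/
theorem exists_over_invariant [Fintype P] (N : Subgroup P) [N.Normal] (η : N →* ℂˣ)
    (hη : ∀ g n, η (conjBy N g n) = η n) :
    ∃ θ : IrrCharacter P, ∀ n : N, (θ : P → ℂ) n = (θ : P → ℂ) 1 * (η n : ℂ) := by
  classical
  haveI := Fintype.ofFinite N
  have hl := isIrrCharacter_linFun η
  have hlc := Chars.isCharacter_of_irr hl
  have h1 : indFun N (linFun η) 1 ≠ 0 := by
    rw [Chars.indFun_one_apply]
    exact mul_ne_zero (Nat.cast_ne_zero.2 Subgroup.index_ne_zero_of_finite)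
      (Chars.irr_degree_ne_zero hl)
  obtain ⟨θ, hθ⟩ := Chars.exists_constituent (Chars.isCharacter_indFun N hlc)
    (fun h0 => h1 (by rw [h0]; rfl))
  rw [Chars.inner_indFun N _ (Chars.isClassFunction_irr θ),
    conj_inner (Chars.isCharacter_restrict N (Chars.isCharacter_of_irr θ.2)) hlc] at hθ
  have h := restrict_eq_mul_of_invariant N θ.2 hl (fun g n => congrArg Units.val (hη g n)) hθ
  refine ⟨θ, fun n => ?_⟩
  have e := h 1
  rw [show linFun η 1 = 1 by simp [linFun], mul_one, Subgroup.coe_one] at e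
  rw [h n, e]
  rfl

include hc in
theorem invariant_of_central (μ : commutator P →* ℂˣ) (g : P) (z : commutator P) :
    μ (conjBy (commutator P) g z) = μ z :=
  congrArg μ (Subtype.ext (by
    change g * (z : P) * g⁻¹ = z
    rw [Subgroup.mem_center_iff.1 (hc z.2) g, mul_inv_cancel_right]))

/-- A character over a linear character of the derived subgroup is determined by a linear
character of the radical. -/
theorem exists_scalar [Fintype P] {μ : commutator P →* ℂˣ} (θ : IrrCharacter P)
    (hθ : ∀ z : commutator P, (θ : P → ℂ) z = (θ : P → ℂ) 1 * (μ z : ℂ)) :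
    ∃ η : radical hc μ →* ℂˣ,
      (∀ z : commutator P, η ⟨z, commutator_le_radical hc μ z.2⟩ = μ z) ∧
      (∀ x : radical hc μ, (θ : P → ℂ) x = (θ : P → ℂ) 1 * (η x : ℂ)) ∧
      ∀ x, x ∉ radical hc μ → (θ : P → ℂ) x = 0 := by
  classical
  obtain ⟨θ, n, ρ, hρ, rfl⟩ := θ
  change ∀ z : commutator P, ρ.character z = ρ.character 1 * (μ z : ℂ) at hθ
  have hnt : Nontrivial (Fin n → ℂ) := CharsMore.nontrivial_of_isIrreducible ρ
  have hn : (finrank ℂ (Fin n → ℂ) : ℂ) ≠ 0 := Nat.cast_ne_zero.2 finrank_pos.ne'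
  have hone : ρ.character 1 = (finrank ℂ (Fin n → ℂ) : ℂ) := by simp
  have hZ : ∀ z : commutator P, ρ (z : P) = (μ z : ℂ) • 1 := fun z => by
    obtain ⟨c, hcz⟩ := Chars.exists_scalar_of_mem_center ρ (z : P) (hc z.2)
    have h1 : ρ.character z = c * (finrank ℂ (Fin n → ℂ) : ℂ) := by
      simp [Representation.character, hcz, LinearMap.trace_id]
    rw [hθ, hone, mul_comm] at h1
    rw [hcz, ← mul_right_cancel₀ hn h1]
    rfl
  have hswap : ∀ x y : P, ρ x * ρ y = (μ (cel x y) : ℂ) • (ρ y * ρ x) := fun x y => by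
    rw [← map_mul, ← map_mul, show x * y = (cel x y : P) * (y * x) by
      change x * y = ⁅x, y⁆ * (y * x)
      rw [commutatorElement_def]; group, map_mul, hZ, smul_mul_assoc, one_mul]
  have hsc : ∀ x : radical hc μ, ∃ c : ℂ, ρ (x : P) = c • 1 := fun x =>
    schur_scalar ρ _ fun y => by
      rw [hswap, (mem_radical hc).1 x.2 y, Units.val_one, one_smul]
  choose c hc' using hsc
  have huniq : ∀ a b : ℂ, a • (1 : Module.End ℂ (Fin n → ℂ)) = b • 1 → a = b := fun a b h =>
    smul_left_injective ℂ (one_ne_zero : (1 : Module.End ℂ (Fin n → ℂ)) ≠ 0) h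
  let η₀ : radical hc μ →* ℂ :=
    { toFun := c
      map_one' := huniq _ _ (by rw [← hc']; simp)
      map_mul' := fun a b => huniq _ _ (by
        rw [← hc', Subgroup.coe_mul, map_mul, hc', hc', smul_mul_smul_comm, one_mul]) }
  refine ⟨η₀.toHomUnits, fun z => Units.ext ?_, fun x => ?_, fun x hx => ?_⟩
  · exact huniq _ _ ((hc' ⟨z, commutator_le_radical hc μ z.2⟩).symm.trans (hZ z))
  · have h1 : ρ.character x = c x * (finrank ℂ (Fin n → ℂ) : ℂ) := by
      simp [Representation.character, hc' x, LinearMap.trace_one]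
    change ρ.character x = ρ.character 1 * c x
    rw [h1, hone, mul_comm]
  · rw [mem_radical] at hx
    push Not at hx
    obtain ⟨y, hy⟩ := hx
    have h1 : ρ.character x = (μ (cel x y) : ℂ) * ρ.character x := by
      conv_lhs => rw [show ρ.character x = LinearMap.trace ℂ _ (ρ x * ρ y * ρ y⁻¹) by
        rw [mul_assoc, ← map_mul ρ y, mul_inv_cancel, map_one, mul_one]; rfl]
      rw [hswap, smul_mul_assoc, map_smul, smul_eq_mul, mul_assoc, LinearMap.trace_mul_comm,
        mul_assoc, ← map_mul ρ y⁻¹, inv_mul_cancel, map_one, mul_one]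
      rfl
    by_contra hne
    exact hy (Units.ext ((mul_eq_right₀ hne).1 h1.symm))

/-- Some linear character of the radical extends the given one. -/
theorem exists_radical_ext [Fintype P] (μ : commutator P →* ℂˣ) :
    ∃ η : radical hc μ →* ℂˣ, ∀ z : commutator P, η ⟨z, commutator_le_radical hc μ z.2⟩ = μ z := by
  obtain ⟨θ, hθ⟩ := exists_over_invariant (commutator P) μ (invariant_of_central hc μ)
  obtain ⟨η, hη, -⟩ := exists_scalar hc θ hθ
  exact ⟨η, hη⟩

/-- A character over a given extension to the radical. -/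
theorem exists_over_ext [Fintype P] {μ : commutator P →* ℂˣ} (η : radical hc μ →* ℂˣ)
    (hη : ∀ z : commutator P, η ⟨z, commutator_le_radical hc μ z.2⟩ = μ z) :
    ∃ θ : IrrCharacter P,
      (∀ z : commutator P, (θ : P → ℂ) z = (θ : P → ℂ) 1 * (μ z : ℂ)) ∧
      (∀ x : radical hc μ, (θ : P → ℂ) x = (θ : P → ℂ) 1 * (η x : ℂ)) ∧
      ∀ x, x ∉ radical hc μ → (θ : P → ℂ) x = 0 := by
  obtain ⟨θ, hθ⟩ := exists_over_invariant (radical hc μ) η fun g x => by
    rw [show conjBy (radical hc μ) g x =
      (⟨cel g x, commutator_le_radical hc μ (cel g x).2⟩ : radical hc μ) * x from Subtype.ext (by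
        change g * (x : P) * g⁻¹ = ⁅g, (x : P)⁆ * x
        rw [commutatorElement_def]; group), map_mul, hη,
      show cel g (x : P) = (cel (x : P) g)⁻¹ from Subtype.ext (commutatorElement_inv (x : P) g).symm,
      map_inv, (mem_radical hc).1 x.2 g, inv_one, one_mul]
  have hz : ∀ z : commutator P, (θ : P → ℂ) z = (θ : P → ℂ) 1 * (μ z : ℂ) := fun z => by
    rw [← hη]
    exact hθ ⟨z, commutator_le_radical hc μ z.2⟩
  obtain ⟨η', -, -, h0⟩ := exists_scalar hc θ hz
  exact ⟨θ, hz, hθ, h0⟩

omit hc in
/-- A character over a non-trivial character of the derived subgroup of a `s`-group has degree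
divisible by `s`. -/
theorem dvd_degree [Fintype P] {s : ℕ} (hs : s.Prime) (hP : IsPGroup s P)
    {μ : commutator P →* ℂˣ} (hμ : μ ≠ 1) (θ : IrrCharacter P)
    (hθ : ∀ z : commutator P, (θ : P → ℂ) z = (θ : P → ℂ) 1 * (μ z : ℂ)) :
    s ∣ charDegree (θ : P → ℂ) := by
  haveI := Fact.mk hs
  obtain ⟨k, hk⟩ := hP.exists_card_eq
  have h1 : charDegree (θ : P → ℂ) ∣ Nat.card P := by
    obtain ⟨θ, n, ρ, hρ, rfl⟩ := θ
    have e : charDegree (ρ.character : P → ℂ) = finrank ℂ (Fin n → ℂ) := by simp [charDegree]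
    change charDegree (ρ.character : P → ℂ) ∣ _
    rw [e]
    exact (Chars.finrank_dvd_index_center ρ).trans (Subgroup.index_dvd_card _)
  rw [hk] at h1
  obtain ⟨j, -, hj⟩ := (Nat.dvd_prime_pow hs).1 h1
  rw [hj]
  refine dvd_pow_self s fun hj0 => hμ ?_
  have h11 : (θ : P → ℂ) 1 = 1 := by rw [deg_eq, hj, hj0, pow_zero, Nat.cast_one]
  obtain ⟨φ, hφ⟩ := exists_hom_of_linear ⟨Chars.isCharacter_of_irr θ.2, h11⟩
  refine MonoidHom.ext fun z => Units.ext ?_
  have h2 : φ (z : P) = 1 := Abelianization.commutator_subset_ker φ z.2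
  have h3 := hθ z
  rw [h11, one_mul, ← congrFun hφ (z : P), linFun, h2] at h3
  exact h3.symm

end CfsgLib.CharApps.Palfy
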