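import Cfsg.Agent.Lib.CharApps.Palfy.CaseOne
import Cfsg.Agent.Lib.CharApps.Palfy.ClassTwo

/-!
Three primes: the case of a normal Sylow subgroup with central derived subgroup of prime exponent.
-/

set_option autoImplicit false
set_option maxHeartbeats 400000
set_option linter.unusedSectionVars false

open scoped commutatorElement

namespace CfsgLib.CharApps.Palfy

open Cfsg CfsgLib.CharsMore

section Actions

variable {L A : Type*} [Group L] [Group A]

/-- The dual action on linear characters. -/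
def dualEnd (c : L →* Monoid.End A) : L →* Monoid.End (A →* ℂˣ) where
  toFun l :=
    { toFun := fun μ => μ.comp (c l⁻¹ : A →* A)
      map_one' := rfl
      map_mul' := fun _ _ => rfl }
  map_one' := MonoidHom.ext fun μ => MonoidHom.ext fun a => by
    change μ ((c 1⁻¹ : A →* A) a) = μ a
    rw [inv_one, map_one]
    rfl
  map_mul' g h := MonoidHom.ext fun μ => MonoidHom.ext fun a => by
    change μ ((c (g * h)⁻¹ : A →* A) a) = μ ((c h⁻¹ : A →* A) ((c g⁻¹ : A →* A) a))
    rw [mul_inv_rev, map_mul]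
    rfl

theorem dualEnd_apply (c : L →* Monoid.End A) (l : L) (μ : A →* ℂˣ) (a : A) :
    (dualEnd c l : (A →* ℂˣ) →* (A →* ℂˣ)) μ a = μ ((c l⁻¹ : A →* A) a) := rfl

theorem end_inv_apply (c : L →* Monoid.End A) (l : L) (a : A) :
    (c l : A →* A) ((c l⁻¹ : A →* A) a) = a := by
  change (c l * c l⁻¹ : Monoid.End A) a = a
  rw [← map_mul, mul_inv_cancel, map_one]
  rfl

/-- The stabiliser of an element under an action by endomorphisms. -/
def fixer (a : L →* Monoid.End A) (m : A) : Subgroup L where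
  carrier := {l | (a l : A →* A) m = m}
  one_mem' := by
    change (a 1 : A →* A) m = m
    rw [map_one]
    rfl
  mul_mem' := fun {g h} hg hh => by
    change (a (g * h) : A →* A) m = m
    rw [map_mul]
    change (a g : A →* A) ((a h : A →* A) m) = m
    rw [show (a h : A →* A) m = m from hh, show (a g : A →* A) m = m from hg]
  inv_mem' := fun {g} hg => by
    change (a g⁻¹ : A →* A) m = m
    conv_lhs => rw [← show (a g : A →* A) m = m from hg]
    have h := end_inv_apply a g⁻¹ m
    rwa [inv_inv] at h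

theorem mem_fixer {a : L →* Monoid.End A} {m : A} {l : L} :
    l ∈ fixer a m ↔ (a l : A →* A) m = m := Iff.rfl

theorem apply_of_mem_fixer {c : L →* Monoid.End A} {μ : A →* ℂˣ} {l : L}
    (h : l ∈ fixer (dualEnd c) μ) (a : A) : μ ((c l : A →* A) a) = μ a := by
  have h1 := DFunLike.congr_fun (mem_fixer.1 (inv_mem h)) a
  rwa [dualEnd_apply, inv_inv] at h1

theorem stab_linOfEnd (t : ℕ) {M : Type*} [CommGroup M] [Module (ZMod t) (Additive M)]
    (a : L →* Monoid.End M) (m : M) : stab (linOfEnd t a) (Additive.ofMul m) = fixer a m := by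
  ext l
  rw [mem_stab, linOfEnd_apply, Additive.ofMul.injective.eq_iff, mem_fixer]
  rfl

/-- A power congruent to one modulo an exponent. -/
theorem pow_eq_self_of_mod {M : Type*} [Monoid M] {x : M} {c k e : ℕ} (hx : x ^ c = 1)
    (he : k * e % c = 1) : x ^ (k * e) = x := by
  rw [pow_eq_pow_mod _ hx, he, pow_one]

/-- The equality forced by two orbit counts. -/
theorem pow_eq_of_count {s n a α c γ : ℕ} (hs : s.Prime) (hn : 1 < n) (ha : 0 < a) (hc : 0 < c)
    (h₁ : n * (s ^ a - 1) = s ^ α - 1) (h₂ : n * (s ^ c - 1) = s ^ γ - 1) : s ^ α = s ^ γ := by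
  have key : ∀ {a α : ℕ}, 0 < a → n * (s ^ a - 1) = s ^ α - 1 →
      s ^ a ∣ n - 1 ∧ ¬ s ^ (a + 1) ∣ n - 1 := by
    intro a α ha h
    have h2 : 2 ≤ s ^ a := le_trans hs.two_le (Nat.le_self_pow ha.ne' s)
    have hlt : a < α := by
      refine (Nat.pow_lt_pow_iff_right hs.one_lt).1 ?_
      have : 2 * (s ^ a - 1) ≤ n * (s ^ a - 1) := Nat.mul_le_mul_right _ hn
      omega
    obtain ⟨δ, hδ, rfl⟩ : ∃ δ, 0 < δ ∧ α = a + δ := ⟨α - a, by omega, by omega⟩
    have h3 : (n - 1) * (s ^ a - 1) = s ^ a * (s ^ δ - 1) := by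
      have h5 : 1 ≤ s ^ δ := Nat.one_le_pow _ _ hs.pos
      have h4 : s ^ a * (s ^ δ - 1) = s ^ (a + δ) - s ^ a := by
        rw [Nat.mul_sub, mul_one, pow_add]
      have h6 : s ^ a ≤ s ^ (a + δ) := Nat.pow_le_pow_right hs.pos (Nat.le_add_right _ _)
      have h7 : (n - 1) * (s ^ a - 1) = n * (s ^ a - 1) - (s ^ a - 1) := Nat.sub_one_mul _ _
      omega
    have hco : ∀ j, Nat.Coprime (s ^ j) (s ^ a - 1) := fun j => by
      refine Nat.Coprime.pow_left j ((hs.coprime_iff_not_dvd).2 fun hd => ?_)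
      have h5 := Nat.dvd_sub (dvd_pow_self s ha.ne') hd
      rw [show s ^ a - (s ^ a - 1) = 1 by omega] at h5
      exact hs.not_dvd_one h5
    refine ⟨(hco a).dvd_of_dvd_mul_right (h3 ▸ dvd_mul_right _ _), fun hd => ?_⟩
    have h5 : s ^ a * s ∣ s ^ a * (s ^ δ - 1) := by
      rw [← pow_succ, ← h3]
      exact hd.mul_right _
    have h6 := Nat.dvd_of_mul_dvd_mul_left (pow_pos hs.pos a) h5
    have h8 := Nat.dvd_sub (dvd_pow_self s hδ.ne') h6
    rw [show s ^ δ - (s ^ δ - 1) = 1 by have := Nat.one_le_pow δ s hs.pos; omega] at h8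
    exact hs.not_dvd_one h8
  obtain ⟨ha1, ha2⟩ := key ha h₁
  obtain ⟨hc1, hc2⟩ := key hc h₂
  have hac : a = c := by
    rcases lt_trichotomy a c with h | h | h
    · exact absurd ((Nat.pow_dvd_pow s h).trans hc1) ha2
    · exact h
    · exact absurd ((Nat.pow_dvd_pow s h).trans ha1) hc2
  subst hac
  have h1 := Nat.one_le_pow α s hs.pos
  have h2 := Nat.one_le_pow γ s hs.pos
  omega

/-- The orbit count as an equation between prime powers. -/
theorem exists_count {p : ℕ} [Fact p.Prime] {V : Type*} [AddCommGroup V] [Module (ZMod p) V]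
    [Finite V] [Nontrivial V] {H : Type*} [Group H] [Finite H] [Group.IsSolvable H]
    (R : H →* Module.End (ZMod p) V) {r : ℕ} [Fact r.Prime] (hg : Good R r) (Q : Sylow r H) :
    ∃ a α : ℕ, 0 < a ∧ Nat.card (Sylow r H) * (p ^ a - 1) = p ^ α - 1 ∧ Nat.card V = p ^ α := by
  obtain ⟨v, hv, hvQ⟩ := exists_fixed R hg Q
  have h := card_sylow_mul R hg Q
  rw [Module.natCard_eq_pow_finrank (K := ZMod p) (V := fix R Q),
    Module.natCard_eq_pow_finrank (K := ZMod p) (V := V), Nat.card_zmod] at h
  refine ⟨_, _, Nat.pos_of_ne_zero fun h0 => hv ?_, h, by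
    rw [Module.natCard_eq_pow_finrank (K := ZMod p) (V := V), Nat.card_zmod]⟩
  rw [Submodule.finrank_eq_zero] at h0
  rwa [h0, Submodule.mem_bot] at hvQ

end Actions

section Conj

variable {G : Type*} [Group G] (S : Subgroup G) [S.Normal] (L : Subgroup G)

theorem conj_mem_commutator (g : G) {x : S} (hx : x ∈ commutator S) :
    conjBy S g x ∈ commutator S := by
  rw [← Abelianization.ker_of, MonoidHom.mem_ker] at hx ⊢
  rw [← Abelianization.map_of (f := conjBy S g), hx, map_one]

/-- Conjugation on the subgroup. -/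
def endS : L →* Monoid.End S where
  toFun l := conjBy S (l : G)
  map_one' := MonoidHom.ext fun x => Subtype.ext (by
    change ((1 : L) : G) * (x : G) * ((1 : L) : G)⁻¹ = x
    simp)
  map_mul' a b := MonoidHom.ext fun x => Subtype.ext (by
    change ((a * b : L) : G) * (x : G) * ((a * b : L) : G)⁻¹ =
      (a : G) * ((b : G) * (x : G) * (b : G)⁻¹) * (a : G)⁻¹
    simp [mul_assoc])

theorem endS_apply (l : L) (x : S) : (endS S L l : S →* S) x = conjBy S (l : G) x := rfl

/-- Conjugation on the derived subgroup. -/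
def endZ : L →* Monoid.End (commutator S) where
  toFun l := ((conjBy S (l : G)).comp (commutator S).subtype).codRestrict _
    fun z => conj_mem_commutator S _ z.2
  map_one' := MonoidHom.ext fun z => Subtype.ext (DFunLike.congr_fun (endS S L).map_one (z : S))
  map_mul' a b := MonoidHom.ext fun z => Subtype.ext
    (DFunLike.congr_fun ((endS S L).map_mul a b) (z : S))

/-- Conjugation on the abelianisation. -/
def endA : L →* Monoid.End (Abelianization S) where
  toFun l := Abelianization.map (conjBy S (l : G))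
  map_one' := MonoidHom.ext fun a => by
    induction a using QuotientGroup.induction_on with | _ x => ?_
    exact congrArg Abelianization.of (DFunLike.congr_fun (endS S L).map_one x)
  map_mul' a b := MonoidHom.ext fun z => by
    induction z using QuotientGroup.induction_on with | _ x => ?_
    exact congrArg Abelianization.of (DFunLike.congr_fun ((endS S L).map_mul a b) x)

theorem endA_of (l : L) (x : S) :
    (endA S L l : Abelianization S →* Abelianization S) (Abelianization.of x) =
      Abelianization.of (conjBy S (l : G) x) := rfl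

theorem cel_conj (l : L) (x y : S) :
    cel (conjBy S (l : G) x) (conjBy S (l : G) y) =
      (endZ S L l : commutator S →* commutator S) (cel x y) :=
  Subtype.ext (map_commutatorElement (conjBy S (l : G)) x y).symm

variable {S L} (hc : commutator S ≤ Subgroup.center S)

theorem radical_conj {μ : commutator S →* ℂˣ} {l : L} (hl : l ∈ fixer (dualEnd (endZ S L)) μ)
    {x : S} (hx : x ∈ radical hc μ) : conjBy S (l : G) x ∈ radical hc μ := by
  rw [mem_radical] at hx ⊢
  intro y
  have hy : conjBy S (l : G) (conjBy S ((l⁻¹ : L) : G) y) = y := end_inv_apply (endS S L) l y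
  rw [← hy, cel_conj, apply_of_mem_fixer hl]
  exact hx _

/-- Conjugation on the radical. -/
def endR (μ : commutator S →* ℂˣ) :
    fixer (dualEnd (endZ S L)) μ →* Monoid.End (radical hc μ) where
  toFun l := ((conjBy S ((l : L) : G)).comp (radical hc μ).subtype).codRestrict _
    fun x => radical_conj hc l.2 x.2
  map_one' := MonoidHom.ext fun x => Subtype.ext (DFunLike.congr_fun (endS S L).map_one (x : S))
  map_mul' a b := MonoidHom.ext fun x => Subtype.ext
    (DFunLike.congr_fun ((endS S L).map_mul (a : L) b) (x : S))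

variable [Fintype G]

theorem fixer_dualA (ν : Abelianization S →* ℂˣ) :
    fixer (dualEnd (endA S L)) ν =
      (inertia S (linFun (ν.comp Abelianization.of))).subgroupOf L := by
  ext l
  rw [mem_fixer, Subgroup.mem_subgroupOf, ← inv_mem_iff (H := inertia S _), mem_inertia]
  exact ⟨fun h x => congrArg Units.val (DFunLike.congr_fun h (Abelianization.of x)),
    fun h => MonoidHom.ext fun a => by
      induction a using QuotientGroup.induction_on with | _ x => ?_
      exact Units.ext (h x)⟩

include hc in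
/-- An invariant character over a central character. -/
theorem exists_over_stab (hcop : Nat.Coprime (Nat.card L) (Nat.card S)) (hS : 1 < Nat.card S)
    (μ : commutator S →* ℂˣ) :
    ∃ θ : IrrCharacter S, (∀ z : commutator S, (θ : S → ℂ) z = (θ : S → ℂ) 1 * (μ z : ℂ)) ∧
      (inertia S (θ : S → ℂ)).subgroupOf L = fixer (dualEnd (endZ S L)) μ := by
  classical
  haveI := Fintype.ofFinite S
  set K := fixer (dualEnd (endZ S L)) μ with hK
  haveI := Fintype.ofFinite K
  obtain ⟨η₀, hη₀⟩ := exists_radical_ext hc μ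
  have hKS : Nat.Coprime (Nat.card K) (Nat.card S) :=
    hcop.coprime_dvd_left (Subgroup.card_subgroup_dvd_card K)
  obtain ⟨e, -, he⟩ := Nat.exists_mul_mod_eq_one_of_coprime hKS hS
  set d := dualEnd (endR hc μ) with hd
  let D : K → ((radical hc μ →* ℂˣ) →* (radical hc μ →* ℂˣ)) := fun k => d k
  set η := (∏ k : K, D k η₀) ^ e with hη
  have hinv : ∀ k : K, D k η = η := fun k => by
    rw [hη]
    refine ((D k).map_pow _ e).trans ?_
    rw [map_prod]
    congr 1
    refine Fintype.prod_equiv (Equiv.mulLeft k) _ _ fun j => ?_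
    exact (DFunLike.congr_fun (d.map_mul k j) η₀).symm
  have hres : ∀ z : commutator S, η ⟨z, commutator_le_radical hc μ z.2⟩ = μ z := fun z => by
    rw [hη, MonoidHom.pow_apply, MonoidHom.finsetProd_apply,
      Finset.prod_congr rfl (g := fun _ => μ z) (fun k _ => ?_), Finset.prod_const, Finset.card_univ,
      ← pow_mul, ← Nat.card_eq_fintype_card]
    · have ho : μ z ^ Nat.card S = 1 := by
        rw [← map_pow, show z ^ Nat.card S = 1 from Subtype.ext pow_card_eq_one', map_one]
      rw [pow_eq_pow_mod _ ho, he, pow_one]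
    · exact (hη₀ ((endZ S L ((k⁻¹ : K) : L) : commutator S →* commutator S) z)).trans
        (apply_of_mem_fixer (k⁻¹).2 z)
  obtain ⟨θ, hθz, hθr, hθ0⟩ := exists_over_ext hc η hres
  refine ⟨θ, hθz, Subgroup.ext fun l => ?_⟩
  rw [Subgroup.mem_subgroupOf, mem_inertia]
  constructor
  · intro h
    refine inv_mem_iff.1 (mem_fixer.2 (MonoidHom.ext fun z => Units.ext ?_))
    rw [dualEnd_apply, inv_inv]
    have h1 : (θ : S → ℂ) ((endZ S L l : commutator S →* commutator S) z : S) =
        (θ : S → ℂ) (z : S) := h (z : S)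
    rw [hθz, hθz] at h1
    exact mul_left_cancel₀ (deg_ne_zero θ) h1
  · intro hl x
    by_cases hx : x ∈ radical hc μ
    · have h1 := DFunLike.congr_fun (hinv ⟨l, hl⟩⁻¹) ⟨x, hx⟩
      replace h1 : η ((endR hc μ (⟨l, hl⟩ : K)⁻¹⁻¹ : radical hc μ →* radical hc μ) ⟨x, hx⟩) =
          η ⟨x, hx⟩ := h1
      rw [inv_inv] at h1
      rw [hθr ⟨_, radical_conj hc hl hx⟩, hθr ⟨x, hx⟩]
      exact congrArg (fun u : ℂˣ => (θ : S → ℂ) 1 * (u : ℂ)) h1
    · rw [hθ0 x hx, hθ0]
      intro hmem
      have h1 := radical_conj hc (inv_mem hl) hmem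
      have h2 : conjBy S ((l⁻¹ : L) : G) (conjBy S (l : G) x) = x := by
        have h3 := end_inv_apply (endS S L) l⁻¹ x
        rwa [inv_inv] at h3
      rw [h2] at h1
      exact hx h1

end Conj

variable {G : Type*} [Group G] [Fintype G] [Group.IsSolvable G] {S L : Subgroup G} [S.Normal]
  {s : ℕ} [Fact s.Prime] [@Module (ZMod s) (Additive (commutator S →* ℂˣ)) _
    AddCommGroup.toAddCommMonoid]

/-- A Sylow subgroup of the complement which centralises both layers forbids degrees. -/
theorem false_of_centralizes (hL : S.IsComplement' L) (hexp : ∀ z : commutator S, z ^ s = 1)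
    {q : ℕ} [Fact q.Prime] (hqs : q ≠ s) (hSq : ¬ q ∣ Nat.card S) (P : Sylow q L)
    (hPn : (P : Subgroup L).Normal) (hPc : ∀ a ∈ P, ∀ b ∈ P, a * b = b * a)
    (hZ : ∀ g ∈ P, ∀ z, (endZ S L g : commutator S →* commutator S) z = z)
    (hA : ∀ g ∈ P, ∀ a, (endA S L g : Abelianization S →* Abelianization S) a = a)
    (hqd : ∃ χ : IrrCharacter G, q ∣ charDegree (χ : G → ℂ)) : False := by
  have hfix : ∀ g ∈ P, ∀ x : S, conjBy S (g : G) x = x := by
    intro g hg x
    have hz : conjBy S (g : G) x * x⁻¹ ∈ commutator S := by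
      rw [← Abelianization.ker_of, MonoidHom.mem_ker, map_mul, map_inv, ← endA_of, hA g hg,
        mul_inv_cancel]
    set z : commutator S := ⟨_, hz⟩ with hzdef
    have hone : conjBy S (g : G) x = (z : S) * x := by simp [hzdef]
    have hpow : ∀ k : ℕ, conjBy S ((g ^ k : L) : G) x = (z ^ k : commutator S) * x := by
      intro k
      induction k with
      | zero =>
        refine Subtype.ext ?_
        simp
      | succ k ih =>
        rw [show conjBy S ((g ^ (k + 1) : L) : G) x = conjBy S (g : G) (conjBy S ((g ^ k : L) : G) x)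
          from by rw [pow_succ']; exact DFunLike.congr_fun ((endS S L).map_mul g (g ^ k)) x,
          ih, map_mul, hone, show conjBy S (g : G) ((z ^ k : commutator S) : S) = (z ^ k : commutator S)
            from congrArg Subtype.val (hZ g hg (z ^ k)), ← mul_assoc, ← Subgroup.coe_mul, ← pow_succ]
    obtain ⟨j, hj⟩ := P.2 ⟨g, hg⟩
    have hj' : g ^ q ^ j = 1 := congrArg Subtype.val hj
    have h1 := hpow (q ^ j)
    rw [hj', show conjBy S ((1 : L) : G) x = x from DFunLike.congr_fun (endS S L).map_one x,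
      eq_comm, mul_eq_right] at h1
    have h2 : z ^ q ^ j = 1 := Subtype.ext h1
    have hc : Nat.Coprime (q ^ j) s :=
      Nat.Coprime.pow_left j ((Nat.coprime_primes Fact.out Fact.out).2 hqs)
    have h3 := pow_gcd_eq_one.2 ⟨h2, hexp z⟩
    rw [hc, pow_one] at h3
    rw [hone, h3, Subgroup.coe_one, one_mul]
  haveI := hPn
  let A : Subgroup G := (P : Subgroup L).map L.subtype
  haveI : A.Normal := ⟨fun a ha g => by
    obtain ⟨y, hy, rfl⟩ := Subgroup.mem_map.1 ha
    obtain ⟨⟨n, l⟩, hg⟩ := hL.2 g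
    refine Subgroup.mem_map.2 ⟨l * y * l⁻¹, hPn.conj_mem y hy l, ?_⟩
    have h1 : ((l * y * l⁻¹ : L) : G) * n * ((l * y * l⁻¹ : L) : G)⁻¹ = n :=
      congrArg Subtype.val (hfix _ (hPn.conj_mem y hy l) n)
    rw [← hg]
    change ((l * y * l⁻¹ : L) : G) = (n : G) * l * y * ((n : G) * l)⁻¹
    calc ((l * y * l⁻¹ : L) : G) = (n : G) * ((n : G)⁻¹ * ((l * y * l⁻¹ : L) : G) * n) * (n : G)⁻¹ := by
          group
      _ = (n : G) * ((l * y * l⁻¹ : L) : G) * (n : G)⁻¹ := by
          congr 2
          rw [mul_assoc, inv_mul_eq_iff_eq_mul]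
          exact mul_inv_eq_iff_eq_mul.1 h1
      _ = (n : G) * l * y * ((n : G) * l)⁻¹ := by simp [mul_assoc]⟩
  refine false_of_abelian_normal A (fun a ha b hb => ?_) ?_ hqd
  · obtain ⟨y, hy, rfl⟩ := Subgroup.mem_map.1 ha
    obtain ⟨z, hz, rfl⟩ := Subgroup.mem_map.1 hb
    exact congrArg Subtype.val (hPc y hy z hz)
  · rw [Subgroup.index_map_subtype, hL.index_eq_card]
    exact fun h => ((Fact.out : q.Prime).dvd_mul.1 h).elim P.not_dvd_index hSq

/-- A prime of some degree moves the derived subgroup. -/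
theorem moves_of_degree (hL : S.IsComplement' L) (hSp : IsPGroup s S)
    (hcop : Nat.Coprime (Nat.card L) (Nat.card S)) (hS : 1 < Nat.card S)
    (hc : commutator S ≤ Subgroup.center S) (hexp : ∀ z : commutator S, z ^ s = 1)
    (hne : commutator S ≠ ⊥) {q r : ℕ} (hq : q.Prime) (hr : r.Prime) (hsq : s ≠ q) (hsr : s ≠ r)
    (hqr : q ≠ r)
    (hgq : Good (linOfEnd s (dualEnd (endZ S L))) q) (hgr : Good (linOfEnd s (dualEnd (endZ S L))) r)
    (hnsq : ∀ χ : IrrCharacter G, ¬ s * q ∣ charDegree (χ : G → ℂ))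
    (hnqr : ∀ χ : IrrCharacter G, ¬ q * r ∣ charDegree (χ : G → ℂ))
    (hqd : ∃ χ : IrrCharacter G, q ∣ charDegree (χ : G → ℂ))
    (hrd : ∃ χ : IrrCharacter G, r ∣ charDegree (χ : G → ℂ)) :
    Moves (linOfEnd s (dualEnd (endZ S L))) q := by
  classical
  by_contra hm
  have hs : s.Prime := Fact.out
  haveI := Fact.mk hq
  haveI := Fact.mk hr
  haveI := Fintype.ofFinite S
  letI : CommGroup (commutator S) :=
    { (inferInstance : Group (commutator S)) with mul_comm := comm_commutator hc }
  haveI : Finite (commutator S →* ℂˣ) := Finite.of_equiv _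
    (CommGroup.monoidHom_mulEquiv_of_hasEnoughRootsOfUnity (commutator S) ℂ).some.symm.toEquiv
  haveI : Finite (Abelianization S →* ℂˣ) := Finite.of_equiv _
    (CommGroup.monoidHom_mulEquiv_of_hasEnoughRootsOfUnity (Abelianization S) ℂ).some.symm.toEquiv
  obtain ⟨z₀, hz₀, hz₀1⟩ := (Subgroup.bot_or_exists_ne_one _).resolve_left hne
  obtain ⟨μ₀, hμ₀⟩ := FullyRamified.exists_hom_ne_one (c := (⟨z₀, hz₀⟩ : commutator S))
    fun e => hz₀1 (congrArg Subtype.val e)
  have hμ₀1 : μ₀ ≠ 1 := fun e => hμ₀ (by rw [e]; rfl)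
  haveI : Nontrivial (Additive (commutator S →* ℂˣ)) :=
    ⟨⟨Additive.ofMul μ₀, 0, fun e => hμ₀1 (congrArg Additive.toMul e)⟩⟩
  obtain ⟨k, hk⟩ := hSp.exists_card_eq
  have hSu : ∀ {u : ℕ}, u.Prime → s ≠ u → ¬ u ∣ Nat.card S := fun {u} hu hsu hd => by
    rw [hk] at hd
    exact hsu ((Nat.prime_dvd_prime_iff_eq hu hs).1 (hu.dvd_of_dvd_pow hd)).symm
  have hSH : Nat.Coprime (Nat.card S) S.index := by
    rw [hL.symm.index_eq_card]
    exact hcop.symm
  -- trivial action on the derived subgroup
  have hZ : ∀ {u : ℕ} [Fact u.Prime], ¬ Moves (linOfEnd s (dualEnd (endZ S L))) u →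
      Good (linOfEnd s (dualEnd (endZ S L))) u → ∀ P : Sylow u L, ∀ g ∈ P,
        ∀ z, (endZ S L g : commutator S →* commutator S) z = z := by
    intro u _ hmu hgu P g hg z
    obtain ⟨-, -, ht⟩ := sylow_of_not_moves hgu hmu P
    by_contra hne'
    obtain ⟨μ, hμ⟩ := FullyRamified.exists_hom_ne_one
      (c := (endZ S L g : commutator S →* commutator S) z * z⁻¹) fun e => hne' (mul_inv_eq_one.1 e)
    have h1 : g ∈ fixer (dualEnd (endZ S L)) μ := by
      rw [← stab_linOfEnd s, mem_stab, ht g hg]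
      rfl
    exact hμ (by rw [map_mul, map_inv, apply_of_mem_fixer h1, mul_inv_cancel])
  -- trivial action on the abelianisation from fixing all characters
  have hAtriv : ∀ {u : ℕ} (P : Sylow u L), (∀ ν : Abelianization S →* ℂˣ, ∀ g ∈ P,
      g ∈ fixer (dualEnd (endA S L)) ν) →
      ∀ g ∈ P, ∀ a, (endA S L g : Abelianization S →* Abelianization S) a = a := by
    intro u P h g hg a
    by_contra hne'
    obtain ⟨ν, hν⟩ := FullyRamified.exists_hom_ne_one
      (c := (endA S L g : Abelianization S →* Abelianization S) a * a⁻¹)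
      fun e => hne' (mul_inv_eq_one.1 e)
    exact hν (by rw [map_mul, map_inv, apply_of_mem_fixer (h ν g hg), mul_inv_cancel])
  obtain ⟨P⟩ : Nonempty (Sylow q L) := inferInstance
  obtain ⟨hPn, hPc, -⟩ := sylow_of_not_moves hgq hm P
  haveI := Sylow.unique_of_normal P hPn
  have hPZ := hZ hm hgq P
  have hmemI : ∀ {u : ℕ} [Fact u.Prime] [Subsingleton (Sylow u L)] (Q : Sylow u L) (I : Subgroup L),
      ¬ u ∣ I.index → ∀ g ∈ Q, g ∈ I := fun {u} _ _ Q I hI g hg => by
    by_contra hgI
    exact hI (dvd_index_of_forall I fun Q' => ⟨g, by rwa [Subsingleton.elim Q' Q], hgI⟩)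
  by_cases hmr : Moves (linOfEnd s (dualEnd (endZ S L))) r
  swap
  · -- both Sylow subgroups normal
    obtain ⟨Q⟩ : Nonempty (Sylow r L) := inferInstance
    obtain ⟨hQn, hQc, -⟩ := sylow_of_not_moves hgr hmr Q
    haveI := Sylow.unique_of_normal Q hQn
    have hunion : ∀ ν : Abelianization S →* ℂˣ, (∀ g ∈ P, g ∈ fixer (dualEnd (endA S L)) ν) ∨
        ∀ g ∈ Q, g ∈ fixer (dualEnd (endA S L)) ν := by
      intro ν
      rw [fixer_dualA]
      set θ := linFun (ν.comp (Abelianization.of : S →* Abelianization S)) with hθ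
      have hθi : IsIrrCharacter S θ := isIrrCharacter_linFun _
      by_cases hqI : q ∣ ((inertia S θ).subgroupOf L).index
      · right
        refine hmemI Q _ fun hrI => ?_
        obtain ⟨χ, hχ⟩ := exists_degree_product hL hθi (exists_ext_inertia hθi hSH) (oneIrr _)
        have h1 : q * r ∣ ((inertia S θ).subgroupOf L).index :=
          ((Nat.coprime_primes hq hr).2 hqr).mul_dvd_of_dvd_of_dvd hqI hrI
        rw [index_subgroupOf_compl hL (le_inertia S (Chars.isClassFunction_irr ⟨θ, hθi⟩))] at h1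
        exact hnqr χ (hχ ▸ (h1.mul_right _).mul_right _)
      · exact Or.inl (hmemI P _ hqI)
    by_cases hPall : ∀ ν : Abelianization S →* ℂˣ, ∀ g ∈ P, g ∈ fixer (dualEnd (endA S L)) ν
    · exact false_of_centralizes hL hexp (Ne.symm hsq) (hSu hq hsq) P hPn hPc hPZ
        (hAtriv P hPall) hqd
    refine false_of_centralizes hL hexp (Ne.symm hsr) (hSu hr hsr) Q hQn hQc (hZ hmr hgr Q)
      (hAtriv Q fun ν => ?_) hrd
    push Not at hPall
    obtain ⟨ν₁, g₁, hg₁, hν₁⟩ := hPall
    rcases hunion ν with hν | hν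
    · rcases hunion (ν * ν₁) with h2 | h2
      · refine absurd ?_ hν₁
        have h3 := mem_fixer.1 (h2 g₁ hg₁)
        rw [map_mul, mem_fixer.1 (hν g₁ hg₁)] at h3
        exact mem_fixer.2 (mul_left_cancel h3)
      · intro g hg
        have hν₁' := ((hunion ν₁).resolve_left fun h => hν₁ (h g₁ hg₁)) g hg
        have h3 := mem_fixer.1 (h2 g hg)
        rw [map_mul, mem_fixer.1 hν₁'] at h3
        exact mem_fixer.2 (mul_right_cancel h3)
    · exact hν
  -- one normal, the other not: counting
  haveI := Fintype.ofFinite (P : Subgroup L)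
  have hPS : Nat.Coprime (Nat.card (P : Subgroup L)) (Nat.card S) :=
    hcop.coprime_dvd_left (Subgroup.card_subgroup_dvd_card (P : Subgroup L))
  obtain ⟨e, -, he⟩ := Nat.exists_mul_mod_eq_one_of_coprime hPS hS
  let cA : L → (Abelianization S →* Abelianization S) := fun l => endA S L l
  rw [Nat.card_eq_fintype_card (α := (P : Subgroup L))] at he
  have hScard : ∀ a : Abelianization S, a ^ Nat.card S = 1 := fun a => by
    induction a using QuotientGroup.induction_on with | _ x => ?_
    change Abelianization.of x ^ Nat.card S = 1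
    rw [← map_pow, pow_card_eq_one', map_one]
  let π : Abelianization S →* Abelianization S := (∏ g : (P : Subgroup L), cA (g : L)) ^ e
  have hπ : ∀ a, π a = (∏ g : (P : Subgroup L), cA (g : L) a) ^ e := fun a => by
    simp only [π, MonoidHom.pow_apply, MonoidHom.finsetProd_apply]
  let V₀ : Subgroup (Abelianization S) :=
    { carrier := {a | ∀ g ∈ P, cA g a = a}
      one_mem' := fun g _ => map_one _
      mul_mem' := fun {a b} ha hb g hg => by rw [map_mul, ha g hg, hb g hg]
      inv_mem' := fun {a} ha g hg => by rw [map_inv, ha g hg] }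
  have hπV : ∀ a, π a ∈ V₀ := fun a g hg => by
    rw [hπ, map_pow, map_prod]
    congr 1
    refine Fintype.prod_equiv (Equiv.mulLeft (⟨g, hg⟩ : (P : Subgroup L))) _ _ fun j => ?_
    exact (DFunLike.congr_fun ((endA S L).map_mul g (j : L)) a).symm
  have hπfix : ∀ a ∈ V₀, π a = a := fun a ha => by
    rw [hπ, Finset.prod_congr rfl (g := fun _ => a) (fun (g : (P : Subgroup L)) _ => ha (g : L) g.2), Finset.prod_const,
      Finset.card_univ, ← pow_mul, pow_eq_self_of_mod (hScard a) he]
  have hsplit : ∀ a, a * (π a)⁻¹ ∈ π.ker := fun a => by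
    rw [MonoidHom.mem_ker, map_mul, map_inv, hπfix _ (hπV a), mul_inv_cancel]
  -- the pairing kills the kernel against the fixed points
  have hB : ∀ μ : commutator S →* ℂˣ, ∀ x y : S, π (Abelianization.of x) = 1 →
      Abelianization.of y ∈ V₀ → μ (cel x y) = 1 := by
    intro μ x y hx hy
    let F : Abelianization S →* ℂˣ := bil hc μ y
    have hF : ∀ g ∈ P, ∀ a, F (cA g a) = F a := fun g hg a => by
      induction a using QuotientGroup.induction_on with | _ w => ?_
      change bil hc μ y (Abelianization.of (conjBy S (g : G) w)) = bil hc μ y (Abelianization.of w)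
      rw [bil_of, bil_of]
      have h1 : bil hc μ (conjBy S (g : G) y) = bil hc μ y := by
        have hz : conjBy S (g : G) y * y⁻¹ ∈ commutator S := by
          rw [← Abelianization.ker_of, MonoidHom.mem_ker, map_mul, map_inv, show Abelianization.of (conjBy S (g : G) y) = Abelianization.of y from hy g hg,
            mul_inv_cancel]
        have h2 := MonoidHom.mem_ker.1 (commutator_le_radical hc μ hz)
        rw [map_mul, map_inv, mul_inv_eq_one] at h2
        exact h2
      have h3 : μ (cel (conjBy S (g : G) y) (conjBy S (g : G) w)) =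
          μ (cel y (conjBy S (g : G) w)) := DFunLike.congr_fun h1 (Abelianization.of (conjBy S (g : G) w))
      rw [← h3, cel_conj, hPZ g hg]
    have h4 : F (π (Abelianization.of x)) = F (Abelianization.of x) := by
      rw [hπ, map_pow, map_prod, Finset.prod_congr rfl (g := fun _ => F (Abelianization.of x))
        (fun (g : (P : Subgroup L)) _ => hF (g : L) g.2 _), Finset.prod_const, Finset.card_univ, ← pow_mul,
        pow_eq_self_of_mod (x := F (Abelianization.of x)) (by rw [← map_pow, hScard, map_one]) he]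
    rw [hx, map_one] at h4
    rw [show cel x y = (cel y x)⁻¹ from Subtype.ext (commutatorElement_inv y x).symm, map_inv,
      show μ (cel y x) = 1 from h4.symm, inv_one]
  -- the radical is centralised
  have hrad : ∀ μ : commutator S →* ℂˣ, μ ≠ 1 → ∀ x ∈ radical hc μ, Abelianization.of x ∈ V₀ := by
    intro μ hμ x hx g hg
    by_contra hne'
    obtain ⟨ν, hν⟩ := FullyRamified.exists_hom_ne_one
      (c := cA g (Abelianization.of x) * (Abelianization.of x)⁻¹)
      fun h => hne' (mul_inv_eq_one.1 h)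
    have hinv : ∀ η : radical hc μ →* ℂˣ,
        (∀ z : commutator S, η ⟨z, commutator_le_radical hc μ z.2⟩ = μ z) →
        ∃ h : conjBy S (g : G) x ∈ radical hc μ, η ⟨_, h⟩ = η ⟨x, hx⟩ := by
      intro η hη
      obtain ⟨θ, hθz, hθr, -⟩ := exists_over_ext hc η hη
      have hgI : g ∈ (inertia S (θ : S → ℂ)).subgroupOf L := hmemI P _
        ((good_of_extendible hL θ.2 (exists_ext_inertia θ.2 hSH) hs hq hsq hnsq
          ((dvd_degree hs hSp hμ θ hθz).mul_left _)).1) g hg
      have hgf : g ∈ fixer (dualEnd (endZ S L)) μ := by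
        refine inv_mem_iff.1 (mem_fixer.2 (MonoidHom.ext fun z => ?_))
        rw [dualEnd_apply, inv_inv, hPZ g hg]
      refine ⟨radical_conj hc hgf hx, ?_⟩
      have h1 : (θ : S → ℂ) (conjBy S (g : G) x) = (θ : S → ℂ) x :=
        (mem_inertia S).1 (Subgroup.mem_subgroupOf.1 hgI) x
      rw [hθr ⟨_, radical_conj hc hgf hx⟩, hθr ⟨x, hx⟩] at h1
      exact Units.ext (mul_left_cancel₀ (deg_ne_zero θ) h1)
    obtain ⟨η, hη⟩ := exists_radical_ext hc μ
    obtain ⟨h1, e1⟩ := hinv η hη
    obtain ⟨h2, e2⟩ := hinv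
      (η * (ν.comp Abelianization.of).comp (radical hc μ).subtype) fun z => by
        rw [MonoidHom.mul_apply, hη z]
        change μ z * ν (Abelianization.of (z : S)) = μ z
        rw [show Abelianization.of (z : S) = 1 from
          MonoidHom.mem_ker.1 (by rw [Abelianization.ker_of]; exact z.2), map_one, mul_one]
    rw [MonoidHom.mul_apply, MonoidHom.mul_apply, e1] at e2
    refine hν ?_
    rw [map_mul, map_inv]
    have e3 : ν (cA g (Abelianization.of x)) = ν (Abelianization.of x) := mul_left_cancel e2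
    rw [e3, mul_inv_cancel]
  -- the kernel is non-trivial, of exponent `s`, larger than the derived subgroup
  obtain ⟨w, hw, hw1⟩ : ∃ w ∈ π.ker, w ≠ 1 := by
    by_contra! hall
    refine false_of_centralizes hL hexp (Ne.symm hsq) (hSu hq hsq) P hPn hPc hPZ
      (fun g hg a => ?_) hqd
    have h1 := hall _ (hsplit a)
    rw [mul_inv_eq_one] at h1
    rw [h1]
    exact hπV a g hg
  have hkerrad : ∀ μ : commutator S →* ℂˣ, ∀ x : S, Abelianization.of x ∈ π.ker →
      (∀ y : S, Abelianization.of y ∈ π.ker → μ (cel x y) = 1) → x ∈ radical hc μ := by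
    intro μ x hx hy
    rw [mem_radical]
    intro y
    obtain ⟨y₀, hy₀⟩ : ∃ y₀, Abelianization.of y₀ = π (Abelianization.of y) :=
      QuotientGroup.mk_surjective _
    have h1 : μ (cel x y₀) = 1 := hB μ x y₀ hx (by rw [hy₀]; exact hπV _)
    have h2 : μ (cel x (y * y₀⁻¹)) = 1 := hy _ (by rw [map_mul, map_inv, hy₀]; exact hsplit _)
    have h3 : μ (cel x y) = bil hc μ x (Abelianization.of ((y * y₀⁻¹) * y₀)) := by
      rw [inv_mul_cancel_right]; rfl
    rw [h3, map_mul, map_mul, bil_of, bil_of, h1, h2, one_mul]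
  have hdisj : ∀ a ∈ π.ker, a ∈ V₀ → a = 1 := fun a ha hV => by
    rw [← hπfix a hV, MonoidHom.mem_ker.1 ha]
  have hexpK : ∀ a ∈ π.ker, a ^ s = 1 := by
    intro a ha
    obtain ⟨x, rfl⟩ : ∃ x, Abelianization.of x = a := QuotientGroup.mk_surjective a
    refine hdisj _ (pow_mem ha s) ?_
    rw [← map_pow]
    refine hrad μ₀ hμ₀1 _ ((mem_radical hc).2 fun y => ?_)
    have h1 : μ₀ (cel (x ^ s) y) = bil hc μ₀ (x ^ s) (Abelianization.of y) := rfl
    rw [h1, map_pow, MonoidHom.pow_apply, bil_of, ← map_pow, hexp, map_one]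
  obtain ⟨x, hx⟩ : ∃ x, Abelianization.of x = w := QuotientGroup.mk_surjective w
  let f : π.ker →* commutator S := (brk hc x).comp π.ker.subtype
  have hftop : f.range = ⊤ := by
    by_contra hne'
    obtain ⟨z, hz⟩ := not_forall.1 fun h => hne' ((Subgroup.eq_top_iff' _).2 h)
    rw [← CommGroup.forall_monoidHom_apply_eq_one_iff (M := ℂ)] at hz
    push Not at hz
    obtain ⟨μ, hμ, hμz⟩ := hz
    have hμ1 : μ ≠ 1 := fun h => hμz (by rw [h]; rfl)
    refine hw1 (hdisj w hw ?_)
    rw [← hx]
    refine hrad μ hμ1 x (hkerrad μ x (hx ▸ hw) fun y hy => ?_)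
    exact hμ _ ⟨⟨Abelianization.of y, hy⟩, rfl⟩
  have hlarge : Nat.card (commutator S) < Nat.card π.ker := by
    have h1 := Subgroup.card_mul_index f.ker
    rw [Subgroup.index_ker, hftop, Subgroup.card_top] at h1
    have h2 : 1 < Nat.card f.ker := by
      rw [Subgroup.one_lt_card_iff_ne_bot]
      intro hbot
      have h3 : (⟨w, hw⟩ : π.ker) ∈ f.ker := by
        refine MonoidHom.mem_ker.2 (Subtype.ext ?_)
        change (brk hc x w : S) = 1
        rw [← hx, brk_of]
        exact commutatorElement_self x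
      rw [hbot, Subgroup.mem_bot] at h3
      exact hw1 (congrArg Subtype.val h3)
    have h4 : 0 < Nat.card (commutator S) := Nat.card_pos
    nlinarith
  -- the characters trivial on the fixed points
  let X : Subgroup (Abelianization S →* ℂˣ) := (MonoidHom.domRestrictHom V₀ ℂˣ).ker
  have hX : ∀ {ν : Abelianization S →* ℂˣ}, ν ∈ X ↔ ∀ a ∈ V₀, ν a = 1 := fun {ν} =>
    ⟨fun h a ha => DFunLike.congr_fun (MonoidHom.mem_ker.1 h) ⟨a, ha⟩,
      fun h => MonoidHom.mem_ker.2 (MonoidHom.ext fun a => h a a.2)⟩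
  have hcardX : Nat.card X = Nat.card π.ker := by
    have hrange : π.range = V₀ := le_antisymm (by rintro _ ⟨a, rfl⟩; exact hπV a)
      (fun a ha => ⟨a, hπfix a ha⟩)
    have h1 : Nat.card X = Nat.card (Abelianization S ⧸ V₀) := CommGroup.card_domRestrictHom_ker ℂ V₀
    have h2 := Subgroup.card_mul_index π.ker
    rw [Subgroup.index_ker, hrange] at h2
    have h3 := Subgroup.card_mul_index V₀
    rw [← Subgroup.index_eq_card] at h1
    rw [h1]
    refine Nat.eq_of_mul_eq_mul_left (Nat.card_pos (α := V₀)) ?_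
    rw [h3, ← h2, mul_comm]
  have hVinv : ∀ l : L, ∀ a ∈ V₀, cA l a ∈ V₀ := by
    intro l a ha g hg
    have h1 : cA g (cA l a) = cA l (cA (l⁻¹ * g * l) a) := by
      change (endA S L g * endA S L l : Monoid.End _) a =
        (endA S L l * endA S L (l⁻¹ * g * l) : Monoid.End _) a
      rw [← map_mul, ← map_mul, ← mul_assoc, mul_inv_cancel_left]
    rw [h1, ha _ (by
      have h2 := hPn.conj_mem g hg l⁻¹
      rwa [inv_inv] at h2)]
  let a₁ : L →* Monoid.End X :=
    { toFun := fun l => ((dualEnd (endA S L) l : (Abelianization S →* ℂˣ) →* _).comp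
        X.subtype).codRestrict X fun ν => hX.2 fun a ha => by
          change (ν : Abelianization S →* ℂˣ) (cA l⁻¹ a) = 1
          exact hX.1 ν.2 _ (hVinv _ a ha)
      map_one' := MonoidHom.ext fun ν => Subtype.ext
        (DFunLike.congr_fun (dualEnd (endA S L)).map_one (ν : Abelianization S →* ℂˣ))
      map_mul' := fun g h => MonoidHom.ext fun ν => Subtype.ext
        (DFunLike.congr_fun ((dualEnd (endA S L)).map_mul g h) (ν : Abelianization S →* ℂˣ)) }
  letI : Module (ZMod s) (Additive X) :=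
    AddCommGroup.zmodModule (n := s) (G := Additive X) fun ν => by
      refine Additive.toMul.injective (Subtype.ext (MonoidHom.ext fun a => ?_))
      change (ν.toMul : Abelianization S →* ℂˣ) a ^ s = 1
      rw [show (ν.toMul : Abelianization S →* ℂˣ) a =
        (ν.toMul : Abelianization S →* ℂˣ) (a * (π a)⁻¹) * (ν.toMul : Abelianization S →* ℂˣ) (π a)
        by rw [← map_mul, inv_mul_cancel_right], hX.1 ν.toMul.2 _ (hπV a), mul_one, ← map_pow,
        hexpK _ (hsplit a), map_one]
  haveI : Nontrivial (Additive X) := by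
    refine Finite.one_lt_card_iff_nontrivial.1 ?_
    rw [Nat.card_congr Additive.toMul, hcardX]
    exact lt_of_le_of_lt Nat.card_pos hlarge
  have hgood1 : Good (linOfEnd s a₁) r := by
    intro v hv
    obtain ⟨ν, rfl⟩ : ∃ ν, Additive.ofMul ν = v := ⟨v.toMul, rfl⟩
    have hst : fixer a₁ ν = fixer (dualEnd (endA S L)) (ν : Abelianization S →* ℂˣ) :=
      Subgroup.ext fun l => ⟨fun h => congrArg Subtype.val (mem_fixer.1 h),
        fun h => Subtype.ext (mem_fixer.1 h)⟩
    rw [stab_linOfEnd, hst, fixer_dualA]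
    set θ := linFun ((ν : Abelianization S →* ℂˣ).comp (Abelianization.of : S →* Abelianization S))
      with hθ
    have hθi : IsIrrCharacter S θ := isIrrCharacter_linFun _
    refine good_of_extendible hL hθi (exists_ext_inertia hθi hSH) hq hr hqr hnqr ?_
    refine Dvd.dvd.mul_right ?_ _
    rw [← index_subgroupOf_compl hL (le_inertia S (Chars.isClassFunction_irr ⟨θ, hθi⟩))]
    by_contra hqI
    have hfix := hmemI P _ hqI
    refine hv (congrArg Additive.ofMul (Subtype.ext (MonoidHom.ext fun a => ?_) : ν = 1))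
    have h1 : ∀ g : (P : Subgroup L), (ν : Abelianization S →* ℂˣ) (cA (g : L) a) =
        (ν : Abelianization S →* ℂˣ) a := fun g => by
      refine apply_of_mem_fixer ?_ a
      rw [fixer_dualA]
      exact hfix g g.2
    have h2 : (ν : Abelianization S →* ℂˣ) (π a) = (ν : Abelianization S →* ℂˣ) a := by
      rw [hπ, map_pow, map_prod, Finset.prod_congr rfl
        (g := fun _ => (ν : Abelianization S →* ℂˣ) a) (fun g _ => h1 g), Finset.prod_const,
        Finset.card_univ, ← pow_mul, pow_eq_self_of_mod (x := (ν : Abelianization S →* ℂˣ) a) (by rw [← map_pow, hScard, map_one]) he]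
    rw [← h2, hX.1 ν.2 _ (hπV a)]
    rfl
  obtain ⟨Q⟩ : Nonempty (Sylow r L) := inferInstance
  have hn : 1 < Nat.card (Sylow r L) := by
    by_contra hle
    haveI : Subsingleton (Sylow r L) := Finite.card_le_one_iff_subsingleton.1 (by omega)
    exact not_moves_of_normal hgr Q Q.normal_of_subsingleton hmr
  obtain ⟨a, α, ha, e1, hc1⟩ := exists_count (linOfEnd s (dualEnd (endZ S L))) hgr Q
  obtain ⟨c, γ, hc', e2, hc2⟩ := exists_count (linOfEnd s a₁) hgood1 Q
  have h := pow_eq_of_count hs hn ha hc' e1 e2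
  rw [Nat.card_congr Additive.toMul] at hc1 hc2
  rw [← hc1, ← hc2, hcardX, CommGroup.card_monoidHom_of_hasEnoughRootsOfUnity] at h
  exact hlarge.ne h

/-- The case of a normal Sylow subgroup with central derived subgroup. -/
theorem false_of_central_derived {G : Type*} [Group G] [Fintype G] [Group.IsSolvable G] {s q r : ℕ}
    [Fact s.Prime] (hq : q.Prime) (hr : r.Prime) (hsq : s ≠ q) (hsr : s ≠ r) (hqr : q ≠ r)
    (S : Subgroup G) [S.Normal] (hSp : IsPGroup s S) (hSi : ¬ s ∣ S.index)
    (hc : commutator S ≤ Subgroup.center S) (hexp : ∀ z : commutator S, z ^ s = 1)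
    (hne : commutator S ≠ ⊥)
    (hnsq : ∀ χ : IrrCharacter G, ¬ s * q ∣ charDegree (χ : G → ℂ))
    (hnsr : ∀ χ : IrrCharacter G, ¬ s * r ∣ charDegree (χ : G → ℂ))
    (hnqr : ∀ χ : IrrCharacter G, ¬ q * r ∣ charDegree (χ : G → ℂ))
    (hqd : ∃ χ : IrrCharacter G, q ∣ charDegree (χ : G → ℂ))
    (hrd : ∃ χ : IrrCharacter G, r ∣ charDegree (χ : G → ℂ)) : False := by
  classical
  have hs : s.Prime := Fact.out
  haveI := Fintype.ofFinite S
  letI : CommGroup (commutator S) :=
    { (inferInstance : Group (commutator S)) with mul_comm := comm_commutator hc }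
  haveI : Finite (commutator S →* ℂˣ) := Finite.of_equiv _
    (CommGroup.monoidHom_mulEquiv_of_hasEnoughRootsOfUnity (commutator S) ℂ).some.symm.toEquiv
  letI : Module (ZMod s) (Additive (commutator S →* ℂˣ)) :=
    AddCommGroup.zmodModule (n := s) (G := Additive (commutator S →* ℂˣ)) fun μ => by
      refine Additive.toMul.injective (MonoidHom.ext fun z => ?_)
      change μ.toMul z ^ s = 1
      rw [← map_pow, hexp, map_one]
  obtain ⟨z₀, hz₀, hz₀1⟩ := (Subgroup.bot_or_exists_ne_one _).resolve_left hne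
  obtain ⟨μ₀, hμ₀⟩ := FullyRamified.exists_hom_ne_one (c := (⟨z₀, hz₀⟩ : commutator S))
    fun e => hz₀1 (congrArg Subtype.val e)
  haveI : Nontrivial (Additive (commutator S →* ℂˣ)) :=
    ⟨⟨Additive.ofMul μ₀, 0, fun e => hμ₀ (by
      rw [show μ₀ = 1 from congrArg Additive.toMul e]; rfl)⟩⟩
  have hS : 1 < Nat.card S := by
    haveI : Nontrivial S := ⟨⟨z₀, 1, hz₀1⟩⟩
    exact Finite.one_lt_card
  obtain ⟨k, hk⟩ := hSp.exists_card_eq
  have hSH : Nat.Coprime (Nat.card S) S.index := by
    rw [hk]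
    exact Nat.Coprime.pow_left k ((hs.coprime_iff_not_dvd).2 hSi)
  obtain ⟨L, hL⟩ := Subgroup.exists_right_complement'_of_coprime hSH
  have hcop : Nat.Coprime (Nat.card L) (Nat.card S) := by
    rw [← hL.symm.index_eq_card]
    exact hSH.symm
  have hgood : ∀ {u : ℕ}, u.Prime → s ≠ u →
      (∀ χ : IrrCharacter G, ¬ s * u ∣ charDegree (χ : G → ℂ)) →
      Good (linOfEnd s (dualEnd (endZ S L))) u := by
    intro u hu hsu hno v hv
    obtain ⟨μ, rfl⟩ : ∃ μ, Additive.ofMul μ = v := ⟨v.toMul, rfl⟩
    obtain ⟨θ, hθz, hθI⟩ := exists_over_stab hc hcop hS μ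
    rw [stab_linOfEnd, ← hθI]
    exact good_of_extendible hL θ.2 (exists_ext_inertia θ.2 hSH) hs hu hsu hno
      ((dvd_degree hs hSp (fun e => hv (by rw [e]; rfl)) θ hθz).mul_left _)
  have hgq := hgood hq hsq hnsq
  have hgr := hgood hr hsr hnsr
  have hnrq : ∀ χ : IrrCharacter G, ¬ r * q ∣ charDegree (χ : G → ℂ) := fun χ => by
    rw [mul_comm]; exact hnqr χ
  obtain ⟨χ, hχ⟩ := exists_degree (linOfEnd s (dualEnd (endZ S L))) hq hr hqr hgq hgr
    (moves_of_degree hL hSp hcop hS hc hexp hne hq hr hsq hsr hqr hgq hgr hnsq hnqr hqd hrd)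
    (moves_of_degree hL hSp hcop hS hc hexp hne hr hq hsr hsq (Ne.symm hqr) hgr hgq hnsr hnrq hrd
      hqd)
  exact hnqr ⟨_, Chars.isIrrCharacter_comp (proj hL) (fun l => ⟨(l : G), proj_coe hL l⟩) χ.2⟩
    (by simpa [charDegree] using hχ)

end CfsgLib.CharApps.Palfy
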