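import Cfsg.Agent.Lib.CharsMore.CliffordDegree
import Cfsg.Agent.Lib.CharApps.Basic
import Cfsg.Agent.S4493

/-!
Stabilisers in linear actions and degrees prime to a given prime.
-/

set_option autoImplicit false

namespace CfsgLib.CharApps.Palfy

open Cfsg

/-- No irreducible degree of `H` is divisible by `q`. -/
def DegFree (q : ℕ) (H : Type*) [Group H] : Prop :=
  ∀ χ : IrrCharacter H, ¬ q ∣ charDegree (χ : H → ℂ)

theorem DegFree.of_surjective {q : ℕ} {H K : Type*} [Group H] [Group K] (h : DegFree q H)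
    (f : H →* K) (hf : Function.Surjective f) : DegFree q K := fun χ hd =>
  h ⟨_, Chars.isIrrCharacter_comp f hf χ.2⟩ (by simpa [charDegree] using hd)

section

variable {t : ℕ} {V : Type*} [AddCommGroup V] [Module (ZMod t) V] {L : Type*} [Group L]
  (R : L →* Module.End (ZMod t) V)

/-- The stabiliser of a vector. -/
def stab (v : V) : Subgroup L where
  carrier := {g | R g v = v}
  one_mem' := by simp
  mul_mem' := fun {a b} ha hb => by
    change R (a * b) v = v
    rw [map_mul, Module.End.mul_apply, show R b v = v from hb, show R a v = v from ha]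
  inv_mem' := fun {a} ha => by
    change R a⁻¹ v = v
    conv_lhs => rw [← show R a v = v from ha]
    rw [← Module.End.mul_apply, ← map_mul, inv_mul_cancel, map_one, Module.End.one_apply]

theorem mem_stab {v : V} {g : L} : g ∈ stab R v ↔ R g v = v := Iff.rfl

/-- Every non-zero vector is fixed by a normal abelian Sylow subgroup, in character terms. -/
def Good (q : ℕ) : Prop := ∀ v : V, v ≠ 0 → ¬ q ∣ (stab R v).index ∧ DegFree q (stab R v)

/-- Some element of prime power order moves a vector. -/
def Moves (q : ℕ) : Prop := ∃ (g : L) (k : ℕ), orderOf g = q ^ k ∧ R g ≠ 1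

end

/-- An element of prime power order lies in every normal subgroup of index prime to the prime. -/
theorem mem_of_not_dvd_index {G : Type*} [Group G] {N : Subgroup G} [N.Normal] {q k : ℕ}
    (hq : q.Prime) (hN : ¬ q ∣ N.index) {g : G} (hg : orderOf g = q ^ k) : g ∈ N := by
  have hc : Nat.Coprime (q ^ k) N.index := Nat.Coprime.pow_left k ((hq.coprime_iff_not_dvd).2 hN)
  have h1 : ((g : G ⧸ N)) ^ N.index = 1 := by
    rw [← QuotientGroup.mk_pow, QuotientGroup.eq_one_iff]
    exact N.pow_index_mem g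
  have h2 : ((g : G ⧸ N)) ^ q ^ k = 1 := by
    rw [← QuotientGroup.mk_pow, ← hg, pow_orderOf_eq_one, QuotientGroup.mk_one]
  have h3 := pow_gcd_eq_one.2 ⟨h2, h1⟩
  rwa [hc, pow_one, QuotientGroup.eq_one_iff] at h3

/-- Some character has degree divisible by the index of a given inertia group. -/
theorem exists_dvd_degree_of_inertia {G : Type*} [Group G] [Fintype G] (N : Subgroup G) [N.Normal]
    {θ : N → ℂ} (hθ : IsIrrCharacter N θ) :
    ∃ χ : IrrCharacter G, (CharsMore.inertia N θ).index ∣ charDegree (χ : G → ℂ) := by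
  classical
  haveI := Fintype.ofFinite N
  have hθc := Chars.isCharacter_of_irr hθ
  have hc := Chars.isCharacter_indFun N hθc
  have h1 : indFun N θ 1 ≠ 0 := by
    rw [Chars.indFun_one_apply]
    exact mul_ne_zero (Nat.cast_ne_zero.2 Subgroup.index_ne_zero_of_finite)
      (Chars.irr_degree_ne_zero hθ)
  obtain ⟨χ, hχ⟩ := Chars.exists_constituent hc (fun h0 => h1 (by rw [h0]; rfl))
  have hres := Chars.isCharacter_restrict N (Chars.isCharacter_of_irr χ.2)
  rw [Chars.inner_indFun N θ (Chars.isClassFunction_irr χ), CharsMore.conj_inner hres hθc] at hχ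
  refine ⟨χ, ?_⟩
  have h2 := CharsMore.clifford_degree N χ.2 hθ hχ
  obtain ⟨d, hd⟩ := Chars.character_degree_nat hθc
  rw [CharsMore.inner_eq_multNat hres hθc, hd, deg_eq, ← Nat.cast_mul, ← Nat.cast_mul,
    Nat.cast_inj] at h2
  exact ⟨CharsMore.multNat (fun n : N => (χ : G → ℂ) n) θ * d, by rw [h2]; ring⟩

/-- A cyclic group has a faithful linear character. -/
theorem exists_injective_hom (C : Type*) [Group C] [Finite C] [IsCyclic C] :
    ∃ μ : C →* ℂˣ, Function.Injective μ := by
  obtain ⟨g, hg⟩ := IsCyclic.exists_generator (α := C)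
  have hn : orderOf g ≠ 0 := (orderOf_pos g).ne'
  have hprim := Complex.isPrimitiveRoot_exp (orderOf g) hn
  set ζ := (hprim.isUnit hn).unit with hζ
  have hζ' : IsPrimitiveRoot ζ (orderOf g) := IsPrimitiveRoot.coe_units_iff.1 (by simpa [hζ] using hprim)
  let μ := monoidHomOfForallMemZpowers hg (g' := ζ) hζ'.eq_orderOf.symm.dvd
  refine ⟨μ, (injective_iff_map_eq_one μ).2 fun a ha => ?_⟩
  obtain ⟨k, rfl⟩ := Subgroup.mem_zpowers_iff.1 (hg a)
  rw [map_zpow, monoidHomOfForallMemZpowers_apply_gen, hζ'.zpow_eq_one_iff_dvd] at ha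
  rwa [← orderOf_dvd_iff_zpow_eq_one]

end CfsgLib.CharApps.Palfy
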