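import Cfsg.Agent.Lib.CharApps.Palfy.Defs
import Cfsg.Agent.Lib.CharsMore.Extend
import Cfsg.Agent.Lib.CharsMore.Gallagher
import Cfsg.Agent.Lib.CharsMore.ItoDegree
import Cfsg.Agent.Lib.Chars.Degree

/-!
Degrees of characters over a character of a normal subgroup with a complement.
-/

set_option autoImplicit false

namespace CfsgLib.CharApps.Palfy

open Cfsg CfsgLib.CharsMore

universe u

variable {G : Type u} [Group G] [Fintype G] {N L : Subgroup G} [N.Normal]

theorem bijective_mk_subtype (hL : N.IsComplement' L) :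
    Function.Bijective ((QuotientGroup.mk' N).comp L.subtype) := by
  refine ⟨(injective_iff_map_eq_one _).2 fun l hl => ?_, fun q => ?_⟩
  · change ((l : G) : G ⧸ N) = 1 at hl
    rw [QuotientGroup.eq_one_iff] at hl
    exact Subtype.ext (Subgroup.disjoint_def.1 hL.disjoint hl l.2)
  · induction q using QuotientGroup.induction_on with | _ g => ?_
    obtain ⟨⟨n, l⟩, h⟩ := hL.2 g
    refine ⟨l, ?_⟩
    change ((l : G) : G ⧸ N) = (g : G ⧸ N)
    rw [← h, QuotientGroup.eq]
    have e : (l : G)⁻¹ * ((n : G) * l) = (l : G)⁻¹ * n * ((l : G)⁻¹)⁻¹ := by group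
    rw [e]
    exact Subgroup.Normal.conj_mem inferInstance _ n.2 _

/-- The projection to the complement. -/
noncomputable def proj (hL : N.IsComplement' L) : G →* L :=
  (MulEquiv.ofBijective _ (bijective_mk_subtype hL)).symm.toMonoidHom.comp (QuotientGroup.mk' N)

theorem mk_proj (hL : N.IsComplement' L) (g : G) : ((proj hL g : G) : G ⧸ N) = g :=
  (MulEquiv.ofBijective _ (bijective_mk_subtype hL)).apply_symm_apply (g : G ⧸ N)

theorem proj_coe (hL : N.IsComplement' L) (l : L) : proj hL l = l :=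
  (bijective_mk_subtype hL).1 (mk_proj hL l)

theorem mul_proj_inv_mem (hL : N.IsComplement' L) (g : G) : g * (proj hL g : G)⁻¹ ∈ N := by
  rw [← QuotientGroup.eq_one_iff, QuotientGroup.mk_mul, QuotientGroup.mk_inv, mk_proj,
    mul_inv_cancel]

theorem proj_eq_one (hL : N.IsComplement' L) {n : G} (hn : n ∈ N) : proj hL n = 1 :=
  (bijective_mk_subtype hL).1 (by
    change ((proj hL n : G) : G ⧸ N) = ((1 : G) : G ⧸ N)
    rw [mk_proj, QuotientGroup.mk_one, QuotientGroup.eq_one_iff]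
    exact hn)

theorem proj_mem (hL : N.IsComplement' L) {T : Subgroup G} (hT : N ≤ T) {g : G} (hg : g ∈ T) :
    (proj hL g : G) ∈ T := by
  have h := T.mul_mem (T.inv_mem (hT (mul_proj_inv_mem hL g))) hg
  rwa [mul_inv_rev, inv_inv, inv_mul_cancel_right] at h

theorem index_subgroupOf_compl (hL : N.IsComplement' L) {T : Subgroup G} (hT : N ≤ T) :
    (T.subgroupOf L).index = T.index := by
  have hc : (T.subgroupOf L).comap (proj hL) = T := by
    refine Subgroup.ext fun g => ⟨fun h => ?_, fun h => proj_mem hL hT h⟩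
    have h1 := T.mul_mem (hT (mul_proj_inv_mem hL g)) (Subgroup.mem_subgroupOf.1 h)
    rwa [inv_mul_cancel_right] at h1
  conv_rhs => rw [← hc]
  exact (Subgroup.index_comap_of_surjective _ fun (l : L) => ⟨(l : G), proj_coe hL l⟩).symm

/-- Degrees above an extendible character. -/
theorem exists_degree_product (hL : N.IsComplement' L) {θ : N → ℂ} (hθ : IsIrrCharacter N θ)
    (hext : ∃ ψ : inertia N θ → ℂ, IsIrrCharacter (inertia N θ) ψ ∧
      ∀ n : N, ψ ⟨n, le_inertia N (Chars.isClassFunction_irr ⟨θ, hθ⟩) n.2⟩ = θ n)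
    (β : IrrCharacter ((inertia N θ).subgroupOf L)) :
    ∃ χ : IrrCharacter G, charDegree (χ : G → ℂ) =
      (inertia N θ).index * charDegree θ * charDegree (β : (inertia N θ).subgroupOf L → ℂ) := by
  classical
  haveI := Fintype.ofFinite N
  revert β
  set T := inertia N θ with hTdef
  intro β
  obtain ⟨ψ, hψ, hres⟩ := hext
  have hNT : N ≤ T := le_inertia N (Chars.isClassFunction_irr ⟨θ, hθ⟩)
  haveI := Fintype.ofFinite T
  haveI := Fintype.ofFinite (N.subgroupOf T)
  haveI := Chars.irrFintype T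
  let f : T →* T.subgroupOf L :=
    ((proj hL).comp T.subtype).codRestrict _ fun g => proj_mem hL hNT g.2
  have hf : Function.Surjective f := fun l =>
    ⟨⟨(l : L), l.2⟩, Subtype.ext (proj_coe hL (l : L))⟩
  let β' : IrrCharacter T := ⟨_, Chars.isIrrCharacter_comp f hf β.2⟩
  have hβ : β' ∈ quotIrr (N.subgroupOf T) := by
    rw [mem_quotIrr]
    intro x hx
    rw [CharApps.mem_charKer]
    change (β : T.subgroupOf L → ℂ) (f x) = (β : T.subgroupOf L → ℂ) (f 1)
    rw [show f x = 1 from Subtype.ext (proj_eq_one hL hx), map_one]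
  have hψN : IsIrrCharacter (N.subgroupOf T) (fun n : N.subgroupOf T => ψ n) := by
    have e : (fun n : N.subgroupOf T => ψ n) = pullFn N T θ := funext fun n =>
      hres ⟨(n : T), n.2⟩
    rw [e]
    exact isIrr_pullFn N hNT hθ
  have hirr := gallagher_irr (N.subgroupOf T) hψ hψN hβ
  have hrn : (fun n : N => ((β' : T → ℂ) * ψ) ⟨n, hNT n.2⟩) = (β' : T → ℂ) 1 • θ := by
    funext n
    have h1 : f ⟨n, hNT n.2⟩ = 1 := Subtype.ext (proj_eq_one hL n.2)
    change (β : T.subgroupOf L → ℂ) (f ⟨n, hNT n.2⟩) * ψ ⟨n, hNT n.2⟩ =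
      (β : T.subgroupOf L → ℂ) (f 1) * θ n
    rw [h1, map_one, hres]
  have hover : classInner (fun n : N => ((β' : T → ℂ) * ψ) ⟨n, hNT n.2⟩) θ ≠ 0 := by
    rw [hrn, Chars.inner_smul_left, Chars.inner_irr_self ⟨θ, hθ⟩, mul_one]
    exact Chars.irr_degree_ne_zero β'.2
  refine ⟨⟨_, isIrr_indFun_of_over N hNT hθ hTdef hirr hover⟩, ?_⟩
  have hψ1 : ψ 1 = θ 1 := hres 1
  have h : indFun T ((β' : T → ℂ) * ψ) 1 = ((T.index * charDegree θ *
      charDegree (β : T.subgroupOf L → ℂ) : ℕ) : ℂ) := by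
    rw [Chars.indFun_one_apply, Pi.mul_apply, hψ1]
    push_cast
    rw [← deg_eq ⟨θ, hθ⟩, ← deg_eq β, show (β' : T → ℂ) 1 = (β : T.subgroupOf L → ℂ) 1 from
      congrArg (β : T.subgroupOf L → ℂ) f.map_one]
    ring
  change ⌊(indFun T ((β' : T → ℂ) * ψ) 1).re⌋₊ = _
  rw [h, Complex.natCast_re, Nat.floor_natCast]

/-- The stabiliser is prime to `q` when `q` meets no prime of the degree over the character. -/
theorem good_of_extendible (hL : N.IsComplement' L) {θ : N → ℂ} (hθ : IsIrrCharacter N θ)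
    (hext : ∃ ψ : inertia N θ → ℂ, IsIrrCharacter (inertia N θ) ψ ∧
      ∀ n : N, ψ ⟨n, le_inertia N (Chars.isClassFunction_irr ⟨θ, hθ⟩) n.2⟩ = θ n)
    {s q : ℕ} (hs : s.Prime) (hq : q.Prime) (hsq : s ≠ q)
    (hno : ∀ χ : IrrCharacter G, ¬ s * q ∣ charDegree (χ : G → ℂ))
    (hd : s ∣ (inertia N θ).index * charDegree θ) :
    ¬ q ∣ ((inertia N θ).subgroupOf L).index ∧ DegFree q ((inertia N θ).subgroupOf L) := by
  have hc := (Nat.coprime_primes hs hq).2 hsq
  constructor
  · intro hqi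
    rw [index_subgroupOf_compl hL (le_inertia N (Chars.isClassFunction_irr ⟨θ, hθ⟩))] at hqi
    obtain ⟨χ, hχ⟩ := exists_degree_product hL hθ hext (oneIrr _)
    exact hno χ (hc.mul_dvd_of_dvd_of_dvd (hχ ▸ hd.mul_right _)
      (hχ ▸ (hqi.mul_right _).mul_right _))
  · intro β hβ
    obtain ⟨χ, hχ⟩ := exists_degree_product hL hθ hext β
    exact hno χ (hc.mul_dvd_of_dvd_of_dvd (hχ ▸ hd.mul_right _) (hχ ▸ hβ.mul_left _))

/-- An invariant linear character extends over a complement. -/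
theorem exists_ext_linear (hL : N.IsComplement' L) (μ : N →* ℂˣ) :
    ∃ ψ : inertia N (linFun μ) → ℂ, IsIrrCharacter (inertia N (linFun μ)) ψ ∧
      ∀ n : N, ψ ⟨n, le_inertia N (Chars.isClassFunction_irr ⟨linFun μ,
        isIrrCharacter_linFun μ⟩) n.2⟩ = linFun μ n := by
  set T := inertia N (linFun μ) with hT
  have hNT : N ≤ T :=
    le_inertia N (Chars.isClassFunction_irr ⟨linFun μ, isIrrCharacter_linFun μ⟩)
  let n₀ : G → N := fun g => ⟨g * (proj hL g : G)⁻¹, mul_proj_inv_mem hL g⟩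
  let φ : T →* ℂˣ :=
    { toFun := fun g => μ (n₀ g)
      map_one' := by
        rw [show n₀ ((1 : T) : G) = 1 from Subtype.ext (by simp [n₀]), map_one]
      map_mul' := fun g h => by
        rw [show n₀ ((g * h : T) : G) = n₀ g * conjBy N (proj hL g : G) (n₀ h) from
          Subtype.ext (by simp [n₀, mul_assoc]), map_mul]
        congr 1
        exact Units.ext ((mem_inertia N).1 (proj_mem hL hNT g.2) (n₀ h)) }
  refine ⟨linFun φ, isIrrCharacter_linFun φ, fun n => ?_⟩
  change ((μ (n₀ n)) : ℂ) = μ n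
  rw [show n₀ (n : G) = n from Subtype.ext (by simp [n₀, proj_eq_one hL n.2])]

/-- An invariant character of a normal Hall subgroup extends. -/
theorem exists_ext_coprime {θ : N → ℂ} (hθ : IsIrrCharacter N θ)
    (hinv : ∀ g n, θ (conjBy N g n) = θ n) (hcop : Nat.Coprime (Nat.card N) N.index) :
    ∃ χ : G → ℂ, IsIrrCharacter G χ ∧ ∀ n : N, χ n = θ n := by
  haveI := Fintype.ofFinite N
  obtain ⟨k, ρ, hirr, rfl, hI, hdet⟩ := exists_invariant_rep N hθ hinv
  have hk : Module.finrank ℂ (Fin k → ℂ) ∣ Nat.card N :=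
    (Chars.finrank_dvd_index_center ρ).trans (Subgroup.index_dvd_card _)
  have ho : orderOf (detHom ρ) ∣ Nat.card N := orderOf_dvd_of_pow_eq_one (MonoidHom.ext fun n => by
    rw [MonoidHom.pow_apply, ← map_pow, pow_card_eq_one', map_one]; rfl)
  obtain ⟨μ, ⟨hμ, -⟩, -⟩ := exists_coprime_ext N (detHom ρ) hdet (hcop.symm.coprime_dvd_right ho)
  obtain ⟨R, hR⟩ := repExtends_of_det N ρ hI (hcop.coprime_dvd_left hk) μ
    (fun n => congrArg Units.val (hμ n))
  exact ⟨_, (isIrrExt_of_rep N R hR).2⟩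

/-- The same inside the inertia group. -/
theorem exists_ext_inertia {θ : N → ℂ} (hθ : IsIrrCharacter N θ)
    (hcop : Nat.Coprime (Nat.card N) N.index) :
    ∃ ψ : inertia N θ → ℂ, IsIrrCharacter (inertia N θ) ψ ∧
      ∀ n : N, ψ ⟨n, le_inertia N (Chars.isClassFunction_irr ⟨θ, hθ⟩) n.2⟩ = θ n := by
  classical
  haveI := Fintype.ofFinite N
  set T := inertia N θ with hT
  have hNT : N ≤ T := le_inertia N (Chars.isClassFunction_irr ⟨θ, hθ⟩)
  haveI := Fintype.ofFinite T
  have hc : Nat.Coprime (Nat.card (N.subgroupOf T)) (N.subgroupOf T).index := by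
    rw [Nat.card_congr (Subgroup.subgroupOfEquivOfLe hNT).toEquiv]
    exact hcop.coprime_dvd_right (Subgroup.relIndex_dvd_index_of_normal N T)
  obtain ⟨χ, hχ, hres⟩ := exists_ext_coprime (isIrr_pullFn N hNT hθ)
    (fun g x => (mem_inertia N).1 g.2 ⟨((x : T) : G), Subgroup.mem_subgroupOf.mp x.2⟩) hc
  exact ⟨χ, hχ, fun n => hres ⟨⟨n, hNT n.2⟩, n.2⟩⟩

end CfsgLib.CharApps.Palfy
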