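import Cfsg.Agent.Lib.CharApps.Palfy.Main
import Cfsg.Agent.Lib.CharApps.Palfy.Setting

/-!
The action on linear characters, and consequences of a Sylow subgroup acting trivially.
-/

set_option autoImplicit false
set_option linter.unusedSectionVars false

namespace CfsgLib.CharApps.Palfy

open Cfsg CfsgLib.CharsMore

/-- A family of endomorphisms of an abelian group as linear maps. -/
def linOfEnd (t : ℕ) {L M : Type*} [Group L] [CommGroup M] [Module (ZMod t) (Additive M)]
    (a : L →* Monoid.End M) : L →* Module.End (ZMod t) (Additive M) where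
  toFun l := AddMonoidHom.toZModLinearMap t (MonoidHom.toAdditive (a l : M →* M))
  map_one' := LinearMap.ext fun x => by
    change Additive.ofMul ((a 1 : M →* M) x.toMul) = x
    rw [map_one]
    rfl
  map_mul' g h := LinearMap.ext fun x => by
    change Additive.ofMul ((a (g * h) : M →* M) x.toMul) = _
    rw [map_mul]
    rfl

theorem linOfEnd_apply (t : ℕ) {L M : Type*} [Group L] [CommGroup M] [Module (ZMod t) (Additive M)]
    (a : L →* Monoid.End M) (l : L) (x : Additive M) :
    linOfEnd t a l x = Additive.ofMul ((a l : M →* M) x.toMul) := rfl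

variable {G : Type*} [Group G]

/-- Conjugation on the linear characters of a normal subgroup. -/
def dualConj (N : Subgroup G) [N.Normal] (L : Subgroup G) : L →* Monoid.End (N →* ℂˣ) where
  toFun l :=
    { toFun := fun μ => μ.comp (conjBy N (l : G)⁻¹)
      map_one' := rfl
      map_mul' := fun _ _ => rfl }
  map_one' := MonoidHom.ext fun μ => MonoidHom.ext fun n => by
    change μ (conjBy N ((1 : L) : G)⁻¹ n) = μ n
    exact congrArg μ (Subtype.ext (by simp))
  map_mul' a b := MonoidHom.ext fun μ => MonoidHom.ext fun n => by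
    change μ (conjBy N ((a * b : L) : G)⁻¹ n) = μ (conjBy N (b : G)⁻¹ (conjBy N (a : G)⁻¹ n))
    exact congrArg μ (Subtype.ext (by simp [mul_assoc]))

theorem dualConj_apply (N : Subgroup G) [N.Normal] (L : Subgroup G) (l : L) (μ : N →* ℂˣ) (n : N) :
    (dualConj N L l : (N →* ℂˣ) →* (N →* ℂˣ)) μ n = μ (conjBy N (l : G)⁻¹ n) := rfl

theorem stab_dual [Fintype G] (t : ℕ) (N : Subgroup G) [N.Normal] (L : Subgroup G)
    [Module (ZMod t) (Additive (N →* ℂˣ))] (μ : N →* ℂˣ) :
    stab (linOfEnd t (dualConj N L)) (Additive.ofMul μ) =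
      (inertia N (linFun μ)).subgroupOf L := by
  ext l
  rw [mem_stab, Subgroup.mem_subgroupOf, ← inv_mem_iff (H := inertia N (linFun μ)), mem_inertia,
    linOfEnd_apply, Additive.ofMul.injective.eq_iff]
  exact ⟨fun h n => congrArg Units.val (DFunLike.congr_fun h n),
    fun h => MonoidHom.ext fun n => Units.ext (h n)⟩

variable {p : ℕ} [Fact p.Prime] {V : Type*} [AddCommGroup V] [Module (ZMod p) V] [Finite V]
  [Nontrivial V] {L : Type*} [Group L] [Finite L] [Group.IsSolvable L]
  {R : L →* Module.End (ZMod p) V} {q : ℕ} [Fact q.Prime]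

/-- A Sylow subgroup with trivial action is normal and commutative. -/
theorem sylow_of_not_moves (hg : Good R q) (hm : ¬ Moves R q) (P : Sylow q L) :
    (P : Subgroup L).Normal ∧ (∀ a ∈ P, ∀ b ∈ P, a * b = b * a) ∧ ∀ a ∈ P, R a = 1 := by
  have htriv : ∀ (Q : Sylow q L), ∀ a ∈ Q, R a = 1 := fun Q a ha => by
    by_contra h
    obtain ⟨k, hk⟩ := Q.2 ⟨a, ha⟩
    obtain ⟨k', -, hk'⟩ := (Nat.dvd_prime_pow (Fact.out : q.Prime)).1
      (orderOf_dvd_of_pow_eq_one (x := a) (congrArg Subtype.val hk))
    exact hm ⟨a, k', hk', h⟩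
  refine ⟨?_, sylow_comm R hg P, htriv P⟩
  obtain ⟨v, hv⟩ := exists_ne (0 : V)
  obtain ⟨P₀, -, hu, -⟩ := exists_unique_fix R hg hv
  have hall : ∀ Q : Sylow q L, Q = P₀ := fun Q => hu Q fun a ha => by rw [htriv Q a ha]; rfl
  haveI : Subsingleton (Sylow q L) := ⟨fun A B => (hall A).trans (hall B).symm⟩
  exact P.normal_of_subsingleton

/-- A normal Sylow subgroup acts trivially. -/
theorem not_moves_of_normal (hg : Good R q) (P : Sylow q L) (hP : (P : Subgroup L).Normal) :
    ¬ Moves R q := by
  rintro ⟨g, k, hk, hne⟩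
  haveI := hP
  have hgP : g ∈ P := mem_of_not_dvd_index Fact.out P.not_dvd_index hk
  refine hne (LinearMap.ext fun v => ?_)
  rcases eq_or_ne v 0 with rfl | hv
  · rw [map_zero, map_zero]
  · obtain ⟨Q, hQ, -⟩ := exists_unique_fix R hg hv
    haveI := Sylow.unique_of_normal P hP
    rw [Subsingleton.elim Q P] at hQ
    exact hQ g hgP

end CfsgLib.CharApps.Palfy
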