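import Cfsg.Agent.Lib.Recog.TransLinearSolvable

/-!
A commutative normal subgroup of a linear group containing an irreducible element of large prime
order spans a field.
-/

set_option autoImplicit false
set_option maxHeartbeats 400000

namespace CfsgLib.CharApps.Palfy

open CfsgLib.Recog.TransLinear

variable {p : ℕ} [Fact p.Prime] {V : Type*} [AddCommGroup V] [Module (ZMod p) V] [Finite V]
  [Nontrivial V] {G : Type*} [Group G] [Finite G]

/-- Some positive power of an element of a finite monoid is idempotent. -/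
theorem exists_pow_idempotent {M : Type*} [Monoid M] [Finite M] (a : M) :
    ∃ m : ℕ, 0 < m ∧ a ^ m * a ^ m = a ^ m := by
  obtain ⟨i, j, hne, hij⟩ := Finite.exists_ne_map_eq_of_infinite (fun n : ℕ => a ^ n)
  wlog h : i < j generalizing i j with H
  · exact H j i hne.symm hij.symm (by omega)
  have h1 : ∀ k, a ^ (i + k * (j - i)) = a ^ i := by
    intro k
    induction k with
    | zero => simp
    | succ k ih =>
      rw [show i + (k + 1) * (j - i) = (i + k * (j - i)) + (j - i) by ring, pow_add, ih, ← pow_add,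
        Nat.add_sub_cancel' h.le]
      exact hij.symm
  have hle : i + 1 ≤ (i + 1) * (j - i) := Nat.le_mul_of_pos_right _ (by omega)
  refine ⟨(i + 1) * (j - i), by omega, ?_⟩
  obtain ⟨c, hc⟩ := Nat.exists_eq_add_of_le (show i ≤ (i + 1) * (j - i) by omega)
  rw [← pow_add]
  calc a ^ ((i + 1) * (j - i) + (i + 1) * (j - i))
      = a ^ c * a ^ (i + (i + 1) * (j - i)) := by rw [← pow_add]; congr 1; omega
    _ = a ^ c * a ^ i := by rw [h1]
    _ = a ^ ((i + 1) * (j - i)) := by rw [← pow_add]; congr 1; omega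

/-- A maximal commutative normal subgroup spans a field when some element of prime order exceeding
the dimension acts irreducibly. -/
theorem exists_field_of_irreducible (R : G →* Module.End (ZMod p) V) (A : Subgroup G) [A.Normal]
    (hA : IsMulCommutative A) {x : G} {r : ℕ} (hr : r.Prime) (hxr : x ^ r = 1)
    (hirr : ∀ W : Submodule (ZMod p) V, (∀ w ∈ W, R x w ∈ W) → W = ⊥ ∨ W = ⊤)
    (hdim : Module.finrank (ZMod p) V < r) :
    ∃ (l : ℕ) (φ : GaloisField p l →+* Module.End (ZMod p) V), l ≠ 0 ∧
      (∀ a ∈ A, R a ∈ Set.range φ) ∧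
      (∀ f : Module.End (ZMod p) V, (∀ a ∈ A, Commute f (R a)) → ∀ x, Commute f (φ x)) ∧
      (∀ g : G, ∃ σ : GaloisField p l →+* GaloisField p l, ∀ x, R g * φ x = φ (σ x) * R g) := by
  classical
  haveI : Finite (Module.End (ZMod p) V) :=
    Finite.of_injective (fun f => (f : V → V)) DFunLike.coe_injective
  have hTc : ∀ a ∈ R '' A, ∀ b ∈ R '' A, a * b = b * a := by
    rintro _ ⟨a, ha, rfl⟩ _ ⟨b, hb, rfl⟩
    rw [← map_mul, ← map_mul]
    exact congrArg R (congrArg Subtype.val (mul_comm' (⟨a, ha⟩ : A) ⟨b, hb⟩))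
  set K := Algebra.adjoin (ZMod p) (R '' A) with hK
  have hmem : ∀ {t}, t ∈ A → R t ∈ K := fun ht => Algebra.subset_adjoin ⟨_, ht, rfl⟩
  letI : CommRing K := Algebra.adjoinCommRingOfComm (ZMod p) hTc
  have hinv : ∀ g : G, R g⁻¹ * R g = 1 := fun g => by rw [← map_mul, inv_mul_cancel, map_one]
  have hinv' : ∀ g : G, R g * R g⁻¹ = 1 := fun g => by rw [← map_mul, mul_inv_cancel, map_one]
  have hconj : ∀ (g : G) (a : K), R g * (a : Module.End (ZMod p) V) * R g⁻¹ ∈ K := by
    intro g a
    obtain ⟨a, ha⟩ := a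
    induction ha using Algebra.adjoin_induction with
    | mem x hx =>
      obtain ⟨t, ht, rfl⟩ := hx
      rw [← map_mul, ← map_mul]
      exact hmem (Subgroup.Normal.conj_mem inferInstance t ht g)
    | algebraMap r =>
      rw [← Algebra.commutes, mul_assoc, ← map_mul R, mul_inv_cancel, map_one, mul_one]
      exact K.algebraMap_mem r
    | add x y _ _ hx hy => simpa [mul_add, add_mul] using K.add_mem hx hy
    | mul x y _ _ hx hy =>
      have h1 := K.mul_mem hx hy
      rwa [show R g * x * R g⁻¹ * (R g * y * R g⁻¹) = R g * (x * y) * R g⁻¹ by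
        simp only [mul_assoc]; rw [← mul_assoc (R g⁻¹), hinv, one_mul]] at h1
  let c : G → (K →+* K) := fun g =>
    { toFun := fun a => ⟨R g * (a : Module.End (ZMod p) V) * R g⁻¹, hconj g a⟩
      map_one' := Subtype.ext (by
        change R g * 1 * R g⁻¹ = 1
        rw [mul_one, hinv'])
      map_mul' := fun a b => Subtype.ext (by
        change R g * ((a : Module.End (ZMod p) V) * b) * R g⁻¹ = _
        simp only [Subalgebra.coe_mul, mul_assoc]
        rw [← mul_assoc (R g⁻¹), hinv, one_mul])
      map_zero' := Subtype.ext (by change R g * 0 * R g⁻¹ = 0; simp)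
      map_add' := fun a b => Subtype.ext (by
        change R g * ((a : Module.End (ZMod p) V) + b) * R g⁻¹ = _
        simp [mul_add, add_mul]) }
  have happ : ∀ (a b : K) (v : V), ((a * b : K) : Module.End (ZMod p) V) v =
      (a : Module.End (ZMod p) V) ((b : Module.End (ZMod p) V) v) := fun _ _ _ => rfl
  have hcancel : ∀ (g : G) (v : V), R g⁻¹ (R g v) = v := fun g v => mul_inv_apply_cancel R g v
  -- nilpotent elements vanish
  have hnil : ∀ a : K, IsNilpotent a → a = 0 := by
    obtain ⟨W, ⟨hW0, hWK⟩, hWmin⟩ := (wellFounded_lt (α := Submodule (ZMod p) V)).has_min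
      {W : Submodule (ZMod p) V | W ≠ ⊥ ∧ ∀ a : K, ∀ w ∈ W, (a : Module.End (ZMod p) V) w ∈ W}
      ⟨⊤, ⟨top_ne_bot, fun _ _ _ => Submodule.mem_top⟩⟩
    let U : Submodule (ZMod p) V :=
      ⨅ a : {a : K // IsNilpotent a}, LinearMap.ker (a.1 : Module.End (ZMod p) V)
    have hWU : W ≤ U := le_iInf fun ⟨a, n, hn⟩ w hw => by
      by_contra hne
      rw [LinearMap.mem_ker] at hne
      have hle : W.map (a : Module.End (ZMod p) V) ≤ W := by
        rintro _ ⟨u, hu, rfl⟩
        exact hWK a u hu
      have heq : W.map (a : Module.End (ZMod p) V) = W := by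
        refine eq_of_le_of_not_lt hle (hWmin _ ⟨?_, ?_⟩)
        · intro hb
          exact hne ((Submodule.mem_bot _).1 (hb ▸ Submodule.mem_map_of_mem hw))
        · rintro b _ ⟨u, hu, rfl⟩
          exact ⟨(b : Module.End (ZMod p) V) u, hWK b u hu,
            by rw [← happ, ← happ, mul_comm]⟩
      have hk : ∀ k : ℕ, ∀ u ∈ W, ∃ z ∈ W, ((a ^ k : K) : Module.End (ZMod p) V) z = u := by
        intro k
        induction k with
        | zero => exact fun u hu => ⟨u, hu, by rw [pow_zero]; rfl⟩
        | succ k ih =>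
          intro u hu
          obtain ⟨z, hz, hzu⟩ := ih u hu
          obtain ⟨z', hz', hzz⟩ := (heq.symm ▸ hz : z ∈ W.map (a : Module.End (ZMod p) V))
          refine ⟨z', hz', ?_⟩
          rw [pow_succ, happ, hzz, hzu]
      refine hW0 (eq_bot_iff.2 fun u hu => ?_)
      obtain ⟨z, -, hz⟩ := hk n u hu
      rw [hn] at hz
      exact (Submodule.mem_bot _).2 hz.symm
    have hU : U = ⊤ := by
      refine (hirr U fun w hw => ?_).resolve_left fun hb => hW0 (eq_bot_iff.2 (hb ▸ hWU))
      rw [Submodule.mem_iInf] at hw ⊢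
      rintro ⟨a, ha⟩
      have h1 : (R x⁻¹ * (a : Module.End (ZMod p) V) * R x⁻¹⁻¹) w = 0 :=
        hw ⟨c x⁻¹ a, ha.map (c x⁻¹)⟩
      rw [inv_inv, Module.End.mul_apply, Module.End.mul_apply] at h1
      rw [LinearMap.mem_ker]
      calc (a : Module.End (ZMod p) V) (R x w)
          = (R x * R x⁻¹) ((a : Module.End (ZMod p) V) (R x w)) := by rw [hinv']; rfl
        _ = 0 := by rw [Module.End.mul_apply, h1, map_zero]
    intro a ha
    refine Subtype.ext (LinearMap.ext fun v => ?_)
    exact (Submodule.mem_iInf _).1 (hU ▸ (Submodule.mem_top : v ∈ ⊤)) ⟨a, ha⟩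
  obtain ⟨v₀, hv₀⟩ := exists_ne (0 : V)
  haveI : Nontrivial K := ⟨⟨0, 1, fun h =>
    hv₀ (LinearMap.congr_fun (congrArg Subtype.val h) v₀).symm⟩⟩
  -- the only idempotents are trivial
  have hidem : ∀ f : K, f * f = f → f ≠ 0 → f = 1 := by
    set E : Set K := {e | e * e = e ∧ e ≠ 0}
    let sz : K → ℕ := fun e => Nat.card (LinearMap.range (e : Module.End (ZMod p) V))
    obtain ⟨e, ⟨he, he0⟩, hemin⟩ := Set.exists_min_image E sz (Set.toFinite _)
      ⟨1, mul_one _, one_ne_zero⟩
    have hkey : ∀ f g : K, g * g = g → sz g ≤ sz e → f * f = f → f * g ≠ 0 → f * g = g := by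
      intro f g hg hgm hf hfg
      have hfg2 : f * g ∈ E := ⟨by rw [mul_mul_mul_comm, hf, hg], hfg⟩
      have hle : LinearMap.range ((f * g : K) : Module.End (ZMod p) V) ≤
          LinearMap.range (g : Module.End (ZMod p) V) := by
        rintro _ ⟨v, rfl⟩
        exact ⟨(f : Module.End (ZMod p) V) v, by rw [← happ, mul_comm]⟩
      have heq : LinearMap.range ((f * g : K) : Module.End (ZMod p) V) =
          LinearMap.range (g : Module.End (ZMod p) V) :=
        SetLike.coe_injective (Set.eq_of_subset_of_ncard_le hle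
          (hgm.trans (hemin _ hfg2)) (Set.toFinite _))
      refine Subtype.ext (LinearMap.ext fun v => ?_)
      obtain ⟨u, hu⟩ : (g : Module.End (ZMod p) V) v ∈
          LinearMap.range ((f * g : K) : Module.End (ZMod p) V) := heq ▸ ⟨v, rfl⟩
      rw [happ, ← hu, ← happ, ← mul_assoc, hf]
    have hsz : ∀ g : G, sz (c g e) ≤ sz e := fun g => by
      refine Nat.card_le_card_of_surjective (fun w => ⟨R g w.1, ?_⟩) ?_
      · obtain ⟨v, hv⟩ := w.2
        refine ⟨R g v, ?_⟩
        change (R g * (e : Module.End (ZMod p) V) * R g⁻¹) (R g v) = _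
        rw [Module.End.mul_apply, hcancel, Module.End.mul_apply, hv]
      · rintro ⟨_, v, rfl⟩
        exact ⟨⟨_, R g⁻¹ v, rfl⟩, rfl⟩
    have hcE : ∀ g : G, c g e * c g e = c g e := fun g => by rw [← map_mul, he]
    have hcomm : Commute (R x) (e : Module.End (ZMod p) V) := by
      by_contra hno
      let f : Fin r → K := fun i => c (x ^ (i : ℕ)) e
      have hinj : Function.Injective f := by
        intro i j hij
        by_contra hne
        wlog h : (i : ℕ) < j generalizing i j with H
        · exact H hij.symm (Ne.symm hne) (by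
            have : (i : ℕ) ≠ j := fun hh => hne (Fin.ext hh)
            omega)
        refine hno ?_
        have h1 : R (x ^ (i : ℕ)) * (e : Module.End (ZMod p) V) * R (x ^ (i : ℕ))⁻¹ =
            R (x ^ (j : ℕ)) * (e : Module.End (ZMod p) V) * R (x ^ (j : ℕ))⁻¹ :=
          congrArg Subtype.val hij
        set k := (j : ℕ) - i with hk
        have hjk : x ^ (j : ℕ) = x ^ (i : ℕ) * x ^ k := by
          rw [← pow_add, hk, Nat.add_sub_cancel' h.le]
        rw [hjk, map_mul, mul_inv_rev, map_mul] at h1
        have h2 := congrArg (fun z => R (x ^ (i : ℕ))⁻¹ * z * R (x ^ (i : ℕ)) * R (x ^ k)) h1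
        simp only [← mul_assoc, hinv, one_mul] at h2
        simp only [mul_assoc, hinv, mul_one] at h2
        have h3 : Commute (R (x ^ k)) (e : Module.End (ZMod p) V) := h2.symm
        have hkr : Nat.Coprime k r :=
          (Nat.coprime_of_lt_prime (n := k) (by omega) (by have := j.2; omega) hr).symm
        obtain ⟨m, -, hm⟩ := Nat.exists_mul_mod_eq_one_of_coprime hkr hr.one_lt
        have h4 := h3.pow_left m
        rwa [← map_pow, ← pow_mul,
          show x ^ (k * m) = x by rw [pow_eq_pow_mod _ hxr, hm, pow_one]] at h4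
      have horth : ∀ i j, i ≠ j → f i * f j = 0 := by
        intro i j hij
        by_contra hne
        have h1 := hkey (f i) (f j) (hcE _) (hsz _) (hcE _) hne
        have h2 := hkey (f j) (f i) (hcE _) (hsz _) (hcE _) (by rwa [mul_comm])
        rw [mul_comm, h1] at h2
        exact hij (hinj h2.symm)
      have hv : ∀ i, ∃ v : V, (f i : Module.End (ZMod p) V) v ≠ 0 := fun i => by
        by_contra! h
        refine he0 ?_
        have h0 : f i = 0 := Subtype.ext (LinearMap.ext h)
        refine Subtype.ext ?_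
        have h1 : R (x ^ (i : ℕ)) * (e : Module.End (ZMod p) V) * R (x ^ (i : ℕ))⁻¹ = 0 :=
          congrArg Subtype.val h0
        have h2 := congrArg (fun z => R (x ^ (i : ℕ))⁻¹ * z * R (x ^ (i : ℕ))) h1
        simp only [← mul_assoc, hinv, one_mul, mul_zero, zero_mul] at h2
        rwa [mul_assoc, hinv, mul_one] at h2
      choose v hv using hv
      have hli : LinearIndependent (ZMod p) fun i => (f i : Module.End (ZMod p) V) (v i) := by
        rw [Fintype.linearIndependent_iff]
        intro g hg j
        have h1 := congrArg (f j : Module.End (ZMod p) V) hg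
        rw [map_sum, map_zero, Finset.sum_eq_single j] at h1
        · rw [map_smul, ← happ, hcE] at h1
          exact (smul_eq_zero.1 h1).resolve_right (hv j)
        · intro i _ hij
          rw [map_smul, ← happ, horth j i (Ne.symm hij)]
          exact smul_zero _
        · exact fun h => absurd (Finset.mem_univ j) h
      have h1 := hli.fintype_card_le_finrank
      rw [Fintype.card_fin] at h1
      omega
    have he1 : e = 1 := by
      have hinvt : ∀ w ∈ LinearMap.range (e : Module.End (ZMod p) V),
          R x w ∈ LinearMap.range (e : Module.End (ZMod p) V) := by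
        rintro _ ⟨v, rfl⟩
        exact ⟨R x v, by rw [← Module.End.mul_apply, ← hcomm.eq, Module.End.mul_apply]⟩
      rcases hirr _ hinvt with h | h
      · exact absurd (Subtype.ext (LinearMap.range_eq_bot.1 h)) he0
      · refine Subtype.ext (LinearMap.ext fun v => ?_)
        obtain ⟨u, rfl⟩ := (h ▸ Submodule.mem_top : v ∈ LinearMap.range (e : Module.End (ZMod p) V))
        rw [← happ, he]
        rfl
    intro f hf hf0
    have h1 := hkey f e he le_rfl hf (by rwa [he1, mul_one])
    rwa [he1, mul_one] at h1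
  haveI : NoZeroDivisors K := ⟨fun {a b} hab => by
    refine or_iff_not_imp_left.2 fun ha => ?_
    obtain ⟨m, hm, hme⟩ := exists_pow_idempotent a
    have h1 := hidem _ hme fun h0 => ha (hnil a ⟨m, h0⟩)
    obtain ⟨k, rfl⟩ := Nat.exists_eq_succ_of_ne_zero hm.ne'
    rw [← one_mul b, ← h1, pow_succ, mul_assoc, hab, mul_zero]⟩
  haveI : IsDomain K := NoZeroDivisors.to_isDomain K
  letI : Field K := (Finite.isField_of_domain K).toField
  set l := Module.finrank (ZMod p) K with hl
  have hcardK : Nat.card K = p ^ l := by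
    rw [Module.natCard_eq_pow_finrank (K := ZMod p) (V := K), Nat.card_zmod]
  have hl0 : l ≠ 0 := Module.finrank_pos.ne'
  letI := Fintype.ofFinite K
  letI := Fintype.ofFinite (GaloisField p l)
  let e : K ≃+* GaloisField p l := FiniteField.ringEquivOfCardEq (by
    rw [← Nat.card_eq_fintype_card, ← Nat.card_eq_fintype_card, hcardK, GaloisField.card p l hl0])
  refine ⟨l, K.val.toRingHom.comp e.symm.toRingHom, hl0, fun a ha => ⟨e ⟨R a, hmem ha⟩, ?_⟩,
    fun f hf x => ?_, fun g => ?_⟩
  · change ((e.symm (e ⟨R a, hmem ha⟩) : K) : Module.End (ZMod p) V) = R a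
    rw [e.symm_apply_apply]
  · change Commute f ((e.symm x : K) : Module.End (ZMod p) V)
    have hz : ∀ z ∈ K, Commute f z := fun z hz => by
      induction hz using Algebra.adjoin_induction with
      | mem x hx => obtain ⟨t, ht, rfl⟩ := hx; exact hf t ht
      | algebraMap r => exact (Algebra.commutes r f).symm
      | add x y _ _ hx hy => exact hx.add_right hy
      | mul x y _ _ hx hy => exact hx.mul_right hy
    exact hz _ (e.symm x).2
  · refine ⟨e.toRingHom.comp ((c g).comp e.symm.toRingHom), fun x => ?_⟩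
    change R g * ((e.symm x : K) : Module.End (ZMod p) V) =
      ((e.symm (e (c g (e.symm x))) : K) : Module.End (ZMod p) V) * R g
    rw [e.symm_apply_apply]
    change _ = R g * ((e.symm x : K) : Module.End (ZMod p) V) * R g⁻¹ * R g
    rw [mul_assoc (R g * _), hinv, mul_one]

/-- A frame for a group with an irreducible element of large prime order. -/
theorem exists_frame_of_irreducible (R : G →* Module.End (ZMod p) V) {x : G} {r : ℕ} (hr : r.Prime)
    (hxr : x ^ r = 1) (hirr : ∀ W : Submodule (ZMod p) V, (∀ w ∈ W, R x w ∈ W) → W = ⊥ ∨ W = ⊤)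
    (hdim : Module.finrank (ZMod p) V < r) : Nonempty (Frame R) := by
  obtain ⟨A, ⟨hAn, hAc⟩, hmax⟩ := (wellFounded_gt (α := Subgroup G)).has_min
    {A : Subgroup G | A.Normal ∧ IsMulCommutative A} ⟨⊥, inferInstance, inferInstance⟩
  obtain ⟨l, φ, hl, h1, h2, h3⟩ := exists_field_of_irreducible R A hAc hr hxr hirr hdim
  exact ⟨⟨A, hAn, hAc, fun T hT hTc hle => (eq_of_le_of_not_lt hle (hmax T ⟨hT, hTc⟩)).symm,
    l, hl, φ, h1, h2, h3⟩⟩

end CfsgLib.CharApps.Palfy
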