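import Cfsg.Agent.Lib.CharApps.Palfy.Primitive

/-!
A solvable group acting on a module so that every non-zero vector is fixed by normal abelian Sylow
subgroups for two primes has a character of degree divisible by both.
-/

set_option autoImplicit false
set_option maxHeartbeats 400000
set_option linter.unusedSectionVars false

namespace CfsgLib.CharApps.Palfy

open CfsgLib.Recog.TransLinear Cfsg

variable {p : ℕ} [Fact p.Prime] {V : Type*} [AddCommGroup V] [Module (ZMod p) V] [Finite V]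
  [Nontrivial V] {G : Type*} [Group G] [Finite G] (R : G →* Module.End (ZMod p) V)

/-- The vectors fixed by a Sylow subgroup. -/
def fix {q : ℕ} (P : Sylow q G) : Submodule (ZMod p) V where
  carrier := {v | ∀ g ∈ P, R g v = v}
  add_mem' := fun {a b} ha hb g hg => by rw [map_add, ha g hg, hb g hg]
  zero_mem' := fun g _ => map_zero _
  smul_mem' := fun c {a} ha g hg => by rw [map_smul, ha g hg]

theorem mem_fix {q : ℕ} {P : Sylow q G} {v : V} : v ∈ fix R P ↔ ∀ g ∈ P, R g v = v := Iff.rfl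

variable [Group.IsSolvable G]

/-- The Sylow subgroup fixing a non-zero vector. -/
theorem exists_unique_fix {q : ℕ} [Fact q.Prime] (hg : Good R q) {v : V} (hv : v ≠ 0) :
    ∃ P : Sylow q G, v ∈ fix R P ∧ (∀ P' : Sylow q G, v ∈ fix R P' → P' = P) ∧
      (∀ a ∈ P, ∀ b ∈ P, a * b = b * a) ∧ ∀ h : G, R h v = v → ∀ a ∈ P, h * a * h⁻¹ ∈ P := by
  classical
  obtain ⟨hi, hd⟩ := hg v hv
  obtain ⟨P₀, hn, hc, hp, hP⟩ :=
    (Cfsg.Agent.S4493.result (G := stab R v) inferInstance q Fact.out).2 hd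
  haveI := hn
  have hi' : ¬ q ∣ (P₀.map (stab R v).subtype).index := by
    rw [Subgroup.index_map_subtype]
    exact fun h => ((Fact.out : q.Prime).dvd_mul.1 h).elim hP hi
  have hmem : ∀ {a : G}, a ∈ ((hp.map (stab R v).subtype).toSylow hi' : Sylow q G) ↔
      ∃ y ∈ P₀, (y : G) = a := Subgroup.mem_map
  refine ⟨(hp.map (stab R v).subtype).toSylow hi', fun g hg => ?_, fun P' hP' => ?_,
    fun a ha b hb => ?_, fun h hh a ha => ?_⟩
  · obtain ⟨y, -, rfl⟩ := hmem.1 hg
    exact y.2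
  · refine (Sylow.ext (P'.is_maximal' ((hp.map (stab R v).subtype).toSylow hi').2
      fun a ha => ?_)).symm
    obtain ⟨k, hk⟩ := P'.2 ⟨a, ha⟩
    obtain ⟨k', -, hk'⟩ := (Nat.dvd_prime_pow (Fact.out : q.Prime)).1
      (orderOf_dvd_of_pow_eq_one (x := (⟨a, hP' a ha⟩ : stab R v))
        (Subtype.ext (congrArg Subtype.val hk : _)))
    exact hmem.2 ⟨⟨a, hP' a ha⟩, mem_of_not_dvd_index Fact.out hP hk', rfl⟩
  · obtain ⟨y, hy, rfl⟩ := hmem.1 ha
    obtain ⟨z, hz, rfl⟩ := hmem.1 hb
    exact congrArg Subtype.val (hc y hy z hz)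
  · obtain ⟨y, hy, rfl⟩ := hmem.1 ha
    exact hmem.2 ⟨⟨h, hh⟩ * y * ⟨h, hh⟩⁻¹, hn.conj_mem y hy _, rfl⟩

theorem sylow_comm {q : ℕ} [Fact q.Prime] (hg : Good R q) (P : Sylow q G) :
    ∀ a ∈ P, ∀ b ∈ P, a * b = b * a := by
  obtain ⟨v, hv⟩ := exists_ne (0 : V)
  obtain ⟨P₀, -, -, hc, -⟩ := exists_unique_fix R hg hv
  intro a ha b hb
  let e := P.equiv P₀
  have h : e (⟨a, ha⟩ * ⟨b, hb⟩) = e (⟨b, hb⟩ * ⟨a, ha⟩) := by
    rw [map_mul, map_mul]
    exact Subtype.ext (hc _ (e ⟨a, ha⟩).2 _ (e ⟨b, hb⟩).2)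
  exact congrArg Subtype.val (e.injective h)

theorem card_fix_eq {q : ℕ} [Fact q.Prime] (P Q : Sylow q G) :
    Nat.card (fix R P) = Nat.card (fix R Q) := by
  suffices h : ∀ P Q : Sylow q G, Nat.card (fix R P) ≤ Nat.card (fix R Q) from
    le_antisymm (h P Q) (h Q P)
  intro P Q
  obtain ⟨g, rfl⟩ := MulAction.exists_smul_eq G P Q
  refine Nat.card_le_card_of_injective (fun v => ⟨R g v.1, fun a ha => ?_⟩) fun v w h => ?_
  · change a ∈ ((g • P : Sylow q G) : Subgroup G) at ha
    rw [Sylow.smul_def, Sylow.pointwise_smul_def, Subgroup.mem_pointwise_smul_iff_inv_smul_mem] at ha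
    have h1 := v.2 _ ha
    rw [← map_inv, MulAut.smul_def, MulAut.conj_apply, inv_inv] at h1
    have h2 := congrArg (R g) h1
    rw [← Module.End.mul_apply, ← map_mul, ← mul_assoc, ← mul_assoc, mul_inv_cancel, one_mul] at h2
    rwa [← Module.End.mul_apply, ← map_mul]
  · refine Subtype.ext ?_
    have h1 := congrArg (R g⁻¹) (congrArg Subtype.val h)
    simpa [mul_inv_apply_cancel] using h1

theorem exists_fixed {q : ℕ} [Fact q.Prime] (hg : Good R q) (P : Sylow q G) :
    ∃ v : V, v ≠ 0 ∧ v ∈ fix R P := by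
  obtain ⟨v, hv⟩ := exists_ne (0 : V)
  obtain ⟨Q, hQ, -⟩ := exists_unique_fix R hg hv
  have h : 1 < Nat.card (fix R P) := by
    rw [card_fix_eq R P Q, Finite.one_lt_card_iff_nontrivial]
    exact ⟨⟨v, hQ⟩, 0, fun e => hv (congrArg Subtype.val e)⟩
  haveI := Finite.one_lt_card_iff_nontrivial.1 h
  obtain ⟨w, hw⟩ := exists_ne (0 : fix R P)
  exact ⟨w, fun e => hw (Subtype.ext e), w.2⟩

theorem card_sylow_mul {q : ℕ} [Fact q.Prime] (hg : Good R q) (P : Sylow q G) :
    Nat.card (Sylow q G) * (Nat.card (fix R P) - 1) = Nat.card V - 1 := by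
  classical
  haveI := Fintype.ofFinite (Sylow q G)
  haveI := Fintype.ofFinite V
  choose Q hQ hQu _ _ using fun v : {v : V // v ≠ 0} => exists_unique_fix R hg v.2
  let e : {v : V // v ≠ 0} ≃ Σ P : Sylow q G, {w : fix R P // w ≠ 0} :=
    { toFun := fun v => ⟨Q v, ⟨v.1, hQ v⟩, fun h => v.2 (congrArg Subtype.val h)⟩
      invFun := fun s => ⟨s.2.1.1, fun h => s.2.2 (Subtype.ext h)⟩
      left_inv := fun _ => rfl
      right_inv := fun ⟨P, ⟨w, hw⟩, hw0⟩ => by
        have h0 : w ≠ 0 := fun h => hw0 (Subtype.ext h)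
        obtain rfl := hQu ⟨w, h0⟩ P hw
        rfl }
  have h := Nat.card_congr e
  have h1 : ∀ (W : Type _) [Zero W] [Finite W], Nat.card {w : W // w ≠ 0} = Nat.card W - 1 := by
    intro W _ _
    haveI := Fintype.ofFinite W
    rw [Nat.card_eq_fintype_card, Nat.card_eq_fintype_card, Fintype.card_subtype_compl,
      Fintype.card_subtype_eq]
  rw [h1 V, Nat.card_sigma, Finset.sum_congr rfl (g := fun _ => Nat.card (fix R P) - 1)
    (fun P' _ => by rw [h1 (fix R P'), card_fix_eq R P' P]), Finset.sum_const, Finset.card_univ,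
    smul_eq_mul, ← Nat.card_eq_fintype_card] at h
  exact h.symm

theorem commute_of_common {q r : ℕ} [Fact q.Prime] [Fact r.Prime] (hqr : q ≠ r) (hgq : Good R q)
    (hgr : Good R r) {v : V} (hv : v ≠ 0) {P : Sylow q G} {Q : Sylow r G} (hP : v ∈ fix R P)
    (hQ : v ∈ fix R Q) : ∀ a ∈ P, ∀ b ∈ Q, a * b = b * a := by
  obtain ⟨P₀, -, hPu, -, hPn⟩ := exists_unique_fix R hgq hv
  obtain ⟨Q₀, -, hQu, -, hQn⟩ := exists_unique_fix R hgr hv
  obtain rfl := hPu P hP
  obtain rfl := hQu Q hQ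
  intro a ha b hb
  have h1 : a * b * a⁻¹ * b⁻¹ ∈ P := by
    rw [show a * b * a⁻¹ * b⁻¹ = a * (b * a⁻¹ * b⁻¹) by group]
    exact mul_mem (s := (P : Subgroup G)) ha (hPn b (hQ b hb) _ (inv_mem ha))
  have h2 : a * b * a⁻¹ * b⁻¹ ∈ Q :=
    mul_mem (s := (Q : Subgroup G)) (hQn a (hP a ha) b hb) (inv_mem hb)
  have h3 : a * b * a⁻¹ * b⁻¹ = 1 :=
    Subgroup.disjoint_def.1 (IsPGroup.disjoint_of_ne q r hqr _ _ P.2 Q.2) h1 h2
  calc a * b = a * b * a⁻¹ * b⁻¹ * (b * a) := by group
    _ = b * a := by rw [h3, one_mul]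

theorem fix_modEq {q r : ℕ} [Fact r.Prime] (P : Sylow q G) (Q : Sylow r G)
    (hc : ∀ a ∈ P, ∀ b ∈ Q, a * b = b * a) :
    Nat.card (fix R P) ≡ Nat.card (fix R P ⊓ fix R Q : Submodule (ZMod p) V) [MOD r] := by
  have hst : ∀ b ∈ Q, ∀ w ∈ fix R P, R b w ∈ fix R P := fun b hb w hw a ha => by
    rw [← Module.End.mul_apply, ← map_mul, hc a ha b hb, map_mul, Module.End.mul_apply, hw a ha]
  let _ : MulAction Q (fix R P) :=
    { smul := fun b w => ⟨R (b : G) w.1, hst b b.2 w.1 w.2⟩
      one_smul := fun w => Subtype.ext (by change R 1 w.1 = w.1; rw [map_one, Module.End.one_apply])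
      mul_smul := fun a b w => Subtype.ext (by
        change R ((a : G) * b) w.1 = R (a : G) (R (b : G) w.1)
        rw [map_mul, Module.End.mul_apply]) }
  refine (Q.2.card_modEq_card_fixedPoints (fix R P)).trans (congrArg (· % r) ?_)
  refine Nat.card_congr
    { toFun := fun w => ⟨w.1.1, Submodule.mem_inf.2 ⟨w.1.2, fun b hb =>
        congrArg Subtype.val (w.2 ⟨b, hb⟩)⟩⟩
      invFun := fun w => ⟨⟨w.1, (Submodule.mem_inf.1 w.2).1⟩, fun b =>
        Subtype.ext ((Submodule.mem_inf.1 w.2).2 b b.2)⟩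
      left_inv := fun _ => rfl
      right_inv := fun _ => rfl }

/-- A Sylow two-subgroup cannot fix only vectors fixed by a commuting moving subgroup of odd
order. -/
theorem false_of_le (hp : p = 2) {r : ℕ} [Fact r.Prime] (hr2 : r ≠ 2) (P : Sylow 2 G)
    (Q : Sylow r G) (hc : ∀ a ∈ P, ∀ b ∈ Q, a * b = b * a) (hle : fix R P ≤ fix R Q)
    (hQ : fix R Q ≠ ⊤) : False := by
  haveI : Fact (Nat.Prime 2) := ⟨Nat.prime_two⟩
  subst hp
  obtain ⟨v, -, hv⟩ := SetLike.exists_of_lt (lt_top_iff_ne_top.2 hQ)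
  rw [mem_fix] at hv
  push Not at hv
  obtain ⟨g, hg, hgv⟩ := hv
  obtain ⟨k, hk⟩ := Q.2 ⟨g, hg⟩
  have hk' : g ^ r ^ k = 1 := congrArg Subtype.val hk
  let S : Module.End (ZMod 2) V := ∑ i ∈ Finset.range (r ^ k), R g ^ i
  let W := LinearMap.ker S
  have hS : S * (R g - 1) = 0 := by
    rw [geom_sum_mul, ← map_pow, hk', map_one, sub_self]
  have hw : R g v - v ∈ W := LinearMap.mem_ker.2 (LinearMap.congr_fun hS v)
  have hst : ∀ a ∈ P, ∀ w ∈ W, R a w ∈ W := by
    intro a ha w hw
    have hcom : Commute S (R a) := by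
      refine Commute.sum_left _ _ _ fun i _ => ?_
      exact ((show Commute g a from (hc a ha g hg).symm).map R).pow_left i
    rw [LinearMap.mem_ker, ← Module.End.mul_apply, hcom.eq, Module.End.mul_apply,
      LinearMap.mem_ker.1 hw, map_zero]
  let _ : MulAction P W :=
    { smul := fun b w => ⟨R (b : G) w.1, hst b b.2 w.1 w.2⟩
      one_smul := fun w => Subtype.ext (by change R 1 w.1 = w.1; rw [map_one, Module.End.one_apply])
      mul_smul := fun a b w => Subtype.ext (by
        change R ((a : G) * b) w.1 = R (a : G) (R (b : G) w.1)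
        rw [map_mul, Module.End.mul_apply]) }
  haveI : Nontrivial W := ⟨⟨_, hw⟩, 0, fun e => hgv (sub_eq_zero.1 (congrArg Subtype.val e))⟩
  have hdvd : 2 ∣ Nat.card W := by
    have h1 := Module.natCard_eq_pow_finrank (K := ZMod 2) (V := W)
    rw [Nat.card_zmod] at h1
    rw [h1]
    exact dvd_pow_self 2 Module.finrank_pos.ne'
  obtain ⟨w, hwf, hw0⟩ := P.2.exists_fixed_point_of_prime_dvd_card_of_fixed_point W hdvd (a := 0)
    fun b => Subtype.ext (map_zero (R (b : G)))
  have hwQ : R g w.1 = w.1 := hle (fun a ha => congrArg Subtype.val (hwf ⟨a, ha⟩)) g hg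
  refine hw0 (Subtype.ext ?_)
  have hpow : ∀ i : ℕ, (R g ^ i) w.1 = w.1 := fun i => by
    induction i with
    | zero => rfl
    | succ i ih => rw [pow_succ, Module.End.mul_apply, hwQ, ih]
  have h1 : S w.1 = 0 := LinearMap.mem_ker.1 w.2
  rw [LinearMap.sum_apply, Finset.sum_congr rfl fun i _ => hpow i, Finset.sum_const,
    Finset.card_range, ← Nat.cast_smul_eq_nsmul (ZMod 2),
    (show ((r ^ k : ℕ) : ZMod 2) = 1 from by
      rw [ZMod.natCast_eq_one_iff_odd]
      exact ((Fact.out : r.Prime).odd_of_ne_two hr2).pow), one_smul] at h1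
  exact h1.symm

/-- The faithful case. -/
theorem exists_degree_injective (hR : Function.Injective R) {q r : ℕ} (hq : q.Prime) (hr : r.Prime)
    (hqr : q ≠ r) (hgq : Good R q) (hgr : Good R r) (hmq : Moves R q) (hmr : Moves R r) :
    ∃ χ : IrrCharacter G, q * r ∣ charDegree (χ : G → ℂ) := by
  classical
  have hp : p.Prime := Fact.out
  haveI := Fact.mk hq
  haveI := Fact.mk hr
  have hne : ∀ {u : ℕ}, u.Prime → Moves R u → ∀ P : Sylow u G, ∃ g ∈ P, g ≠ 1 := by
    intro u hu hm P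
    haveI := Fact.mk hu
    obtain ⟨g, k, hk, hg⟩ := hm
    have hk0 : k ≠ 0 := fun e => hg (by
      rw [e, pow_zero, orderOf_eq_one_iff] at hk
      rw [hk, map_one])
    have hb : (P : Subgroup G) ≠ ⊥ :=
      P.ne_bot_of_dvd_card ((hk ▸ dvd_pow_self u hk0 : u ∣ orderOf g).trans (orderOf_dvd_natCard g))
    exact (Subgroup.ne_bot_iff_exists_ne_one.1 hb).elim fun a ha =>
      ⟨a, a.2, fun e => ha (Subtype.ext e)⟩
  have hfix : ∀ {u : ℕ}, u.Prime → Good R u → Moves R u → SylowFix R u := by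
    intro u hu hgu hmu P
    haveI := Fact.mk hu
    obtain ⟨g, hg, hg1⟩ := hne hu hmu P
    obtain ⟨v, hv, hvP⟩ := exists_fixed R hgu P
    exact ⟨⟨g, hg, hg1, v, hv, hvP g hg⟩, sylow_comm R hgu P⟩
  have hlt : ∀ {u : ℕ} [Fact u.Prime], Moves R u → ∀ P : Sylow u G, fix R P ≠ ⊤ := by
    intro u _ hmu P htop
    obtain ⟨g, hg, hg1⟩ := hne Fact.out hmu P
    refine hg1 (hR (LinearMap.ext fun v => ?_))
    rw [map_one, Module.End.one_apply]
    exact (htop ▸ Submodule.mem_top : v ∈ fix R P) g hg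
  set d := Module.finrank (ZMod p) V with hd
  have hV : Nat.card V = p ^ d := by
    rw [Module.natCard_eq_pow_finrank (K := ZMod p) (V := V), Nat.card_zmod]
  have hcard : ∀ W : Submodule (ZMod p) V, Nat.card W = p ^ Module.finrank (ZMod p) W := fun W => by
    rw [Module.natCard_eq_pow_finrank (K := ZMod p) (V := W), Nat.card_zmod]
  have hdata : ∀ {u : ℕ} [Fact u.Prime], Good R u → Moves R u → ∀ P : Sylow u G,
      0 < Module.finrank (ZMod p) (fix R P) ∧ Module.finrank (ZMod p) (fix R P) < d ∧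
      Nat.card (Sylow u G) * (p ^ Module.finrank (ZMod p) (fix R P) - 1) = p ^ d - 1 := by
    intro u _ hgu hmu P
    obtain ⟨v, hv, hvP⟩ := exists_fixed R hgu P
    refine ⟨Nat.pos_of_ne_zero fun h => hv ?_, Submodule.finrank_lt (hlt hmu P), ?_⟩
    · rw [Submodule.finrank_eq_zero] at h
      rwa [h, Submodule.mem_bot] at hvP
    · rw [← hcard, ← hV]
      exact card_sylow_mul R hgu P
  obtain ⟨P⟩ : Nonempty (Sylow q G) := inferInstance
  obtain ⟨hb0, hbd, hn⟩ := hdata hgq hmq P
  by_cases hd2 : d = 2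
  · exfalso
    have key : ∀ {u : ℕ} [Fact u.Prime], Good R u → Moves R u → u = p := by
      intro u _ hgu hmu
      obtain ⟨Q⟩ : Nonempty (Sylow u G) := inferInstance
      obtain ⟨h0, h2, h⟩ := hdata hgu hmu Q
      rw [show Module.finrank (ZMod p) (fix R Q) = 1 by omega, pow_one, hd2,
        show p ^ 2 - 1 = (p + 1) * (p - 1) by simpa using Nat.sq_sub_sq p 1] at h
      have h1 := Nat.eq_of_mul_eq_mul_right (by have := hp.two_le; omega) h
      have h3 := card_sylow_modEq_one u G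
      rw [h1] at h3
      have h4 : u ∣ p := by
        have h5 := (Nat.modEq_iff_dvd' (by omega)).1 h3.symm
        rwa [Nat.add_sub_cancel] at h5
      exact (Nat.prime_dvd_prime_iff_eq Fact.out hp).1 h4
    exact hqr ((key hgq hmq).trans (key hgr hmr).symm)
  by_cases hex : p = 2 ∧ d = 6
  · exfalso
    obtain ⟨hp2, hd6⟩ := hex
    have key : ∀ {u : ℕ} [Fact u.Prime], Good R u → Moves R u → ∀ U : Sylow u G,
        Module.finrank (ZMod p) (fix R U) ≤ 3 ∧
        (u = 2 ∨ (u = 31 ∧ Module.finrank (ZMod p) (fix R U) = 1) ∨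
          (u = 5 ∧ Module.finrank (ZMod p) (fix R U) = 2)) := by
      intro u _ hgu hmu U
      obtain ⟨h0, h6, h⟩ := hdata hgu hmu U
      have hu : u.Prime := Fact.out
      have h3 := card_sylow_modEq_one u G
      have hn1 : 1 ≤ Nat.card (Sylow u G) := Nat.card_pos
      have h4 := (Nat.modEq_iff_dvd' hn1).1 h3.symm
      rw [show (p ^ Module.finrank (ZMod p) (fix R U) - 1 : ℕ) =
          2 ^ Module.finrank (ZMod p) (fix R U) - 1 from
        congrArg (fun z : ℕ => z ^ Module.finrank (ZMod p) (fix R U) - 1) hp2,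
        show (p ^ d - 1 : ℕ) = 63 from
        (congrArg (fun z : ℕ => z ^ d - 1) hp2).trans
          (congrArg (fun z : ℕ => 2 ^ z - 1) hd6)] at h
      have hpr : ∀ {z : ℕ}, z.Prime → u ∣ z → u = z := fun hz h => (Nat.prime_dvd_prime_iff_eq hu hz).1 h
      rw [hd6] at h6
      generalize Module.finrank (ZMod p) (fix R U) = b at h h0 h6 ⊢
      generalize Nat.card (Sylow u G) = n at h h4
      interval_cases b <;> norm_num at h
      · rw [show n - 1 = 2 * 31 by omega] at h4
        rcases hu.dvd_mul.1 h4 with h5 | h5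
        · exact ⟨by norm_num, Or.inl (hpr Nat.prime_two h5)⟩
        · exact ⟨by norm_num, Or.inr (Or.inl ⟨hpr (by norm_num) h5, rfl⟩)⟩
      · rw [show n - 1 = 2 ^ 2 * 5 by omega] at h4
        rcases hu.dvd_mul.1 h4 with h5 | h5
        · exact ⟨by norm_num, Or.inl (hpr Nat.prime_two (hu.dvd_of_dvd_pow h5))⟩
        · exact ⟨by norm_num, Or.inr (Or.inr ⟨hpr (by norm_num) h5, rfl⟩)⟩
      · rw [show n - 1 = 2 ^ 3 by omega] at h4
        exact ⟨le_rfl, Or.inl (hpr Nat.prime_two (hu.dvd_of_dvd_pow h4))⟩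
      all_goals omega
    have hle : ∀ {u w : ℕ} [Fact u.Prime] [Fact w.Prime], u ≠ w → w ≠ 2 → Good R u → Moves R u →
        Good R w → Moves R w → ∀ (U : Sylow u G) (W : Sylow w G) (v : V), v ≠ 0 →
        v ∈ fix R U → v ∈ fix R W → fix R U ≤ fix R W := by
      intro u w _ _ huw hw2 hgu hmu hgw hmw U W v hv hvU hvW
      obtain ⟨hU3, -⟩ := key hgu hmu U
      have hmod := fix_modEq R U W (commute_of_common R huw hgu hgw hv hvU hvW)
      have he0 : 0 < Module.finrank (ZMod p) (fix R U ⊓ fix R W : Submodule (ZMod p) V) :=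
        Nat.pos_of_ne_zero fun h => hv (by
          rw [Submodule.finrank_eq_zero] at h
          have h1 : v ∈ fix R U ⊓ fix R W := Submodule.mem_inf.2 ⟨hvU, hvW⟩
          rwa [h, Submodule.mem_bot] at h1)
      have hele : Module.finrank (ZMod p) (fix R U ⊓ fix R W : Submodule (ZMod p) V) ≤
          Module.finrank (ZMod p) (fix R U) := Submodule.finrank_mono inf_le_left
      rw [hcard, hcard] at hmod
      have hpow : ∀ z : ℕ, p ^ z = 2 ^ z := fun z => congrArg (fun y : ℕ => y ^ z) hp2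
      simp only [hpow] at hmod
      have hw : w = 31 ∨ w = 5 := by
        rcases (key hgw hmw W).2 with h | ⟨h, -⟩ | ⟨h, -⟩
        · exact absurd h hw2
        · exact Or.inl h
        · exact Or.inr h
      have heq : Module.finrank (ZMod p) (fix R U ⊓ fix R W : Submodule (ZMod p) V) =
          Module.finrank (ZMod p) (fix R U) := by
        generalize Module.finrank (ZMod p) (fix R U ⊓ fix R W : Submodule (ZMod p) V) = e at *
        generalize Module.finrank (ZMod p) (fix R U) = b at *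
        rcases hw with rfl | rfl <;> interval_cases b <;> interval_cases e <;>
          first | rfl | exact absurd hmod (by decide)
      exact (Submodule.eq_of_le_of_finrank_eq inf_le_left heq).symm.trans_le inf_le_right
    obtain ⟨v, hv⟩ := exists_ne (0 : V)
    obtain ⟨U, hU, -⟩ := exists_unique_fix R hgq hv
    obtain ⟨W, hW, -⟩ := exists_unique_fix R hgr hv
    rcases eq_or_ne q 2 with rfl | hq2
    · exact false_of_le R hp2 (Ne.symm hqr) U W (commute_of_common R hqr hgq hgr hv hU hW)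
        (hle hqr (Ne.symm hqr) hgq hmq hgr hmr U W v hv hU hW) (hlt hmr W)
    rcases eq_or_ne r 2 with rfl | hr2
    · exact false_of_le R hp2 hqr W U (commute_of_common R (Ne.symm hqr) hgr hgq hv hW hU)
        (hle (Ne.symm hqr) hqr hgr hmr hgq hmq W U v hv hW hU) (hlt hmq U)
    have heq := le_antisymm (hle hqr hr2 hgq hmq hgr hmr U W v hv hU hW)
      (hle (Ne.symm hqr) hq2 hgr hmr hgq hmq W U v hv hW hU)
    have hf := congrArg (fun Z : Submodule (ZMod p) V => Module.finrank (ZMod p) Z) heq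
    rcases (key hgq hmq U).2 with h | h | h <;> rcases (key hgr hmr W).2 with h' | h' | h' <;>
      omega
  · obtain ⟨ℓ, hℓ, hord⟩ := Recog.ZsigmondyPrime.exists_primitive_prime hp.two_le
      (show 3 ≤ d by omega) hex
    haveI := Fact.mk hℓ
    refine exists_degree_of_primitive hR hq hr hqr (hfix hq hgq hmq) (hfix hr hgr hmr) (by omega)
      hV hord ?_
    have h1 : ℓ ∣ p ^ d - 1 := by
      rw [← ZMod.natCast_eq_zero_iff, Nat.cast_sub (Nat.one_le_pow _ _ hp.pos)]
      push_cast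
      rw [← hord, pow_orderOf_eq_one, sub_self]
    rw [← hn] at h1
    refine ((hℓ.dvd_mul.1 h1).resolve_right fun h2 => ?_).trans
      ((Sylow.card_eq_index_normalizer P).dvd.trans (Subgroup.index_dvd_card _))
    have h3 : (p : ZMod ℓ) ^ Module.finrank (ZMod p) (fix R P) = 1 := by
      have h4 := (ZMod.natCast_eq_zero_iff _ ℓ).2 h2
      rw [Nat.cast_sub (Nat.one_le_pow _ _ hp.pos), sub_eq_zero] at h4
      push_cast at h4
      exact h4
    have := Nat.le_of_dvd hb0 (hord ▸ orderOf_dvd_of_pow_eq_one h3)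
    omega

/-- A solvable group with every non-zero vector fixed by normal abelian Sylow subgroups for two
primes, neither acting trivially, has a character of degree divisible by both. -/
theorem exists_degree {q r : ℕ} (hq : q.Prime) (hr : r.Prime) (hqr : q ≠ r) (hgq : Good R q)
    (hgr : Good R r) (hmq : Moves R q) (hmr : Moves R r) :
    ∃ χ : IrrCharacter G, q * r ∣ charDegree (χ : G → ℂ) := by
  classical
  let R' := QuotientGroup.lift R.ker R le_rfl
  have htrans : ∀ {u : ℕ}, Good R u → Good R' u := by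
    intro u hu v hv
    have hc : (stab R' v).comap (QuotientGroup.mk' R.ker) = stab R v := Subgroup.ext fun g => Iff.rfl
    refine ⟨?_, ?_⟩
    · rw [← Subgroup.index_comap_of_surjective _ (QuotientGroup.mk'_surjective R.ker), hc]
      exact (hu v hv).1
    · let f : stab R v →* stab R' v :=
        ((QuotientGroup.mk' R.ker).comp (stab R v).subtype).codRestrict _ fun g => g.2
      refine (hu v hv).2.of_surjective f fun ⟨a, ha⟩ => ?_
      induction a using QuotientGroup.induction_on with | _ g => ?_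
      exact ⟨⟨g, ha⟩, rfl⟩
  have hmoves : ∀ {u : ℕ}, u.Prime → Moves R u → Moves R' u := by
    rintro u hu ⟨g, k, hk, hg⟩
    obtain ⟨k', -, hk'⟩ := (Nat.dvd_prime_pow hu).1
      (orderOf_dvd_of_pow_eq_one (x := (g : G ⧸ R.ker))
        (by rw [← QuotientGroup.mk_pow, ← hk, pow_orderOf_eq_one, QuotientGroup.mk_one]))
    exact ⟨g, k', hk', hg⟩
  obtain ⟨χ, hχ⟩ := exists_degree_injective R' (injective_quotient_lift R) hq hr hqr (htrans hgq)
    (htrans hgr) (hmoves hq hmq) (hmoves hr hmr)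
  exact ⟨⟨_, Chars.isIrrCharacter_comp (QuotientGroup.mk' R.ker) (QuotientGroup.mk'_surjective _) χ.2⟩,
    by simpa [charDegree] using hχ⟩

end CfsgLib.CharApps.Palfy
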