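import Cfsg.Agent.Lib.CharApps.Palfy.Field
import Cfsg.Agent.Lib.CharApps.Palfy.Defs
import Cfsg.Agent.Lib.CharsMore.Extend
import Cfsg.Agent.Lib.CharsMore.FullyRamified

/-!
Linear groups with an irreducible element of primitive prime order in which each non-zero vector is
fixed by Sylow subgroups for two primes: a character of degree divisible by both primes.
-/

set_option autoImplicit false
set_option maxHeartbeats 400000

open scoped commutatorElement

namespace CfsgLib.CharApps.Palfy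

open CfsgLib.Recog.TransLinear Cfsg

variable {p : ℕ} [Fact p.Prime] {V : Type*} [AddCommGroup V] [Module (ZMod p) V] [Finite V]
  [Nontrivial V] {G : Type*} [Group G] [Finite G] {R : G →* Module.End (ZMod p) V}

/-- The layer above a maximal commutative normal subgroup which is not self-centralising. -/
theorem exists_layer_of_lt (D : Frame R) (hR : Function.Injective R) (hsol : Group.IsSolvable G)
    (hAC : D.A < D.C) : Nonempty D.Layer := by
  classical
  haveI := D.comm
  obtain ⟨B, ⟨hBn, hAB, hBC⟩, hBmin⟩ := (wellFounded_lt (α := Subgroup G)).has_min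
    {B : Subgroup G | B.Normal ∧ D.A < B ∧ B ≤ D.C}
    ⟨D.C, Subgroup.normal_centralizer, hAC, le_rfl⟩
  have hcm : ∀ a ∈ B, ∀ b ∈ B, ⁅a, b⁆ ∈ D.A := by
    have hle : ⁅B, B⁆ ⊔ D.A ≤ B :=
      sup_le (Subgroup.commutator_le_left B B) hAB.le
    by_cases heq : ⁅B, B⁆ ⊔ D.A = B
    · exfalso
      haveI := hsol
      obtain ⟨k, hk⟩ := (Group.isSolvable_def (G ⧸ D.A)).1 inferInstance
      have himg : ∀ j, B.map (QuotientGroup.mk' D.A) ≤ derivedSeries (G ⧸ D.A) j := by
        intro j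
        induction j with
        | zero => exact le_top
        | succ j ih =>
          conv_lhs => rw [← heq]
          rw [Subgroup.map_sup, Subgroup.map_commutator, QuotientGroup.map_mk'_self, sup_bot_eq,
            derivedSeries_succ]
          exact Subgroup.commutator_mono ih ih
      have h1 := himg k
      rw [hk, le_bot_iff, Subgroup.map_eq_bot_iff, QuotientGroup.ker_mk'] at h1
      exact absurd h1 hAB.not_ge
    · intro a ha b hb
      have hA' : D.A = ⁅B, B⁆ ⊔ D.A := by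
        by_contra hne
        exact hBmin _ ⟨inferInstance, lt_of_le_of_ne le_sup_right hne, hle.trans hBC⟩
          (lt_of_le_of_ne hle heq)
      rw [hA']
      exact Subgroup.mem_sup_left (Subgroup.commutator_mem_commutator ha hb)
  -- the exponent
  have hquot : ∀ x y : B ⧸ D.A.subgroupOf B, Commute x y := fun x y => by
    induction x using QuotientGroup.induction_on with | _ x => ?_
    induction y using QuotientGroup.induction_on with | _ y => ?_
    have h1 : ((x * y * x⁻¹ * y⁻¹ : B) : B ⧸ D.A.subgroupOf B) = 1 := by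
      rw [QuotientGroup.eq_one_iff, Subgroup.mem_subgroupOf]
      exact hcm _ x.2 _ y.2
    rw [QuotientGroup.mk_mul, QuotientGroup.mk_mul, QuotientGroup.mk_mul, QuotientGroup.mk_inv,
      QuotientGroup.mk_inv, ← commutatorElement_def, commutatorElement_eq_one_iff_mul_comm] at h1
    exact h1
  obtain ⟨s, hs, hsd⟩ := Nat.exists_prime_and_dvd (n := D.A.relIndex B)
    (fun h => hAB.not_ge (Subgroup.relIndex_eq_one.1 h))
  haveI : Fact s.Prime := ⟨hs⟩
  let Bs : Subgroup G :=
    { carrier := {b | ∃ h : b ∈ B, ((⟨b, h⟩ : B) : B ⧸ D.A.subgroupOf B) ^ s = 1}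
      one_mem' := ⟨B.one_mem, by
        rw [show (⟨1, B.one_mem⟩ : B) = 1 from rfl, QuotientGroup.mk_one, one_pow]⟩
      mul_mem' := fun {a b} ⟨ha, ha'⟩ ⟨hb, hb'⟩ => ⟨B.mul_mem ha hb, by
        rw [show (⟨a * b, B.mul_mem ha hb⟩ : B) = ⟨a, ha⟩ * ⟨b, hb⟩ from rfl, QuotientGroup.mk_mul,
          (hquot _ _).mul_pow, ha', hb', one_mul]⟩
      inv_mem' := fun {a} ⟨ha, ha'⟩ => ⟨B.inv_mem ha, by
        rw [show (⟨a⁻¹, B.inv_mem ha⟩ : B) = ⟨a, ha⟩⁻¹ from rfl, QuotientGroup.mk_inv, inv_pow, ha',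
          inv_one]⟩ }
  have hBs_iff : ∀ {b : G}, b ∈ Bs ↔ b ∈ B ∧ b ^ s ∈ D.A := fun {b} =>
    ⟨fun ⟨h, h'⟩ => ⟨h, by
      rw [← QuotientGroup.mk_pow, QuotientGroup.eq_one_iff, Subgroup.mem_subgroupOf] at h'
      exact h'⟩,
    fun ⟨h, h'⟩ => ⟨h, by
      rw [← QuotientGroup.mk_pow, QuotientGroup.eq_one_iff, Subgroup.mem_subgroupOf]
      exact h'⟩⟩
  have hBseq : Bs = B := by
    by_contra hne
    refine hBmin Bs ⟨⟨fun b hb g => ?_⟩, ?_, fun b hb => hBC (hBs_iff.1 hb).1⟩
      (lt_of_le_of_ne (fun b hb => (hBs_iff.1 hb).1) hne)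
    · obtain ⟨hb1, hb2⟩ := hBs_iff.1 hb
      exact hBs_iff.2 ⟨hBn.conj_mem b hb1 g, by rw [conj_pow]; exact D.normal.conj_mem _ hb2 g⟩
    · refine lt_of_le_of_ne (fun a ha => hBs_iff.2 ⟨hAB.le ha, pow_mem ha s⟩) fun he => ?_
      obtain ⟨x, hx⟩ := exists_prime_orderOf_dvd_card' (G := B ⧸ D.A.subgroupOf B) s hsd
      induction x using QuotientGroup.induction_on with | _ x => ?_
      have hxm : (x : G) ∈ Bs := ⟨x.2, by rw [← hx]; exact pow_orderOf_eq_one _⟩
      rw [← he] at hxm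
      rw [(QuotientGroup.eq_one_iff x).2 hxm, orderOf_one] at hx
      exact hs.ne_one hx.symm
  have hpow : ∀ b ∈ B, b ^ s ∈ D.A := fun b hb => (hBs_iff.1 (hBseq.symm ▸ hb : b ∈ Bs)).2
  have hpg : IsPGroup s (B ⧸ D.A.subgroupOf B) := fun x => ⟨1, by
    induction x using QuotientGroup.induction_on with | _ x => ?_
    rw [pow_one, ← QuotientGroup.mk_pow, QuotientGroup.eq_one_iff, Subgroup.mem_subgroupOf]
    exact hpow _ x.2⟩
  obtain ⟨n, hn⟩ := hpg.exists_card_eq
  have hker : ∀ b ∈ B, (∀ b' ∈ B, Commute b' b) → b ∈ D.A := by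
    intro b hb hcb
    let T : Subgroup G := B ⊓ Subgroup.centralizer (B : Set G)
    have hAT : D.A ≤ T := le_inf hAB.le fun a ha =>
      Subgroup.mem_centralizer_iff.2 fun x hx => (D.commute_of_mem (hBC hx) ha).eq.symm
    have hT := D.max T inferInstance ⟨⟨fun x y => Subtype.ext
      ((Subgroup.mem_centralizer_iff.1 (Subgroup.mem_inf.1 y.2).2) x (Subgroup.mem_inf.1 x.2).1)⟩⟩ hAT
    rw [← hT]
    exact Subgroup.mem_inf.2 ⟨hb, Subgroup.mem_centralizer_iff.2 fun x hx => (hcb x hx).eq⟩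
  obtain ⟨b₁, hb₁, b₂, hb₂, hne⟩ : ∃ b₁ ∈ B, ∃ b₂ ∈ B, ¬ Commute b₁ b₂ := by
    by_contra! h
    exact hAB.not_ge fun x hx => hker x hx fun y hy => h y hy x hx
  refine ⟨⟨B, s, n, hs, hBn, hAB.le, hBC, ?_, hn, hn ▸ D.relIndex_le_sq hR hBC hBC
    (fun h hh y hy => hcm y hy h hh) hker, ?_, hcm, hpow, hker⟩⟩
  · -- the layer is not cyclic
    by_contra hlt
    have hcyc : IsCyclic (B ⧸ D.A.subgroupOf B) := by
      rcases Nat.eq_zero_or_pos n with h0 | h0
      · rw [h0, pow_zero] at hn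
        haveI := (Nat.card_eq_one_iff_unique.1 hn).1
        infer_instance
      · exact isCyclic_of_prime_card (p := s) (by rw [hn, show n = 1 by omega, pow_one])
    have hle : (QuotientGroup.mk' (D.A.subgroupOf B)).ker ≤ Subgroup.center B := by
      rw [QuotientGroup.ker_mk']
      intro x hx
      exact Subgroup.mem_center_iff.2 fun y =>
        Subtype.ext (D.commute_of_mem (hBC y.2) (Subgroup.mem_subgroupOf.1 hx)).eq.symm
    exact hne (congrArg Subtype.val
      ((commutative_of_cyclic_center_quotient _ hle) ⟨b₁, hb₁⟩ ⟨b₂, hb₂⟩))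
  · have hc1 : ⁅b₁, b₂⁆ ≠ 1 := fun e => hne (commutatorElement_eq_one_iff_mul_comm.1 e)
    have hca := hcm _ hb₁ _ hb₂
    have hcs : ⁅b₁, b₂⁆ ^ s = 1 := by
      have h1 : b₁ * b₂ * b₁⁻¹ = ⁅b₁, b₂⁆ * b₂ := by rw [commutatorElement_def]; group
      have h2 : Commute ⁅b₁, b₂⁆ b₂ := D.commute_of_mem (hBC hb₂) hca
      have h3 := congrArg (· ^ s) h1
      have h4 : b₁ * b₂ ^ s * b₁⁻¹ = b₂ ^ s := by
        rw [(D.commute_of_mem (hBC hb₁) (hpow _ hb₂)).symm.eq, mul_inv_cancel_right]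
      rw [conj_pow, h2.mul_pow, h4] at h3
      exact mul_eq_right.1 h3.symm
    have h5 := (orderOf_dvd_natCard (⟨_, hca⟩ : D.A)).trans (D.card_A_dvd hR)
    rwa [orderOf_eq_prime (x := (⟨_, hca⟩ : D.A)) (Subtype.ext hcs)
      (fun e => hc1 (congrArg Subtype.val e))] at h5

theorem mem_C_of_lt (D : Frame R) (hR : Function.Injective R) {r : ℕ} (hr : r.Prime) {x : G}
    (hx : x ^ r = 1) (hlt : D.l < r) : x ∈ D.C := by
  rw [← QuotientGroup.eq_one_iff, ← orderOf_eq_one_iff]
  have h1 : orderOf (x : G ⧸ D.C) ∣ r :=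
    orderOf_dvd_of_pow_eq_one (by rw [← QuotientGroup.mk_pow, hx, QuotientGroup.mk_one])
  refine ((Nat.dvd_prime hr).1 h1).resolve_right fun e => ?_
  have h2 := (orderOf_dvd_natCard (x : G ⧸ D.C)).trans (D.index_C hR).1
  rw [e] at h2
  have := Nat.le_of_dvd (Nat.pos_of_ne_zero D.l_ne) h2
  omega

/-- A primitive prime pins down the layer. -/
theorem layer_data (D : Frame R) (hR : Function.Injective R) (L : D.Layer) {r : ℕ} [Fact r.Prime]
    (h : orderOf (p : ZMod r) = D.l * D.m) {x : G} (hx : orderOf x = r) :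
    D.l = 1 ∧ L.s = 2 ∧ (∃ i, 0 < i ∧ L.n = 2 * i ∧ r = 2 ^ i + 1) ∧
      L.s ^ L.n = D.m * D.m ∧ L.actLin x ≠ 1 := by
  classical
  have hr : r.Prime := Fact.out
  have hd0 : 0 < D.l * D.m := Nat.mul_pos (Nat.pos_of_ne_zero D.l_ne) D.one_le_m
  obtain ⟨hdr, -⟩ := le_of_orderOf h hd0
  have hml : D.m ≤ D.l * D.m := Nat.le_mul_of_pos_left _ (Nat.pos_of_ne_zero D.l_ne)
  have hll : D.l ≤ D.l * D.m := Nat.le_mul_of_pos_right _ D.one_le_m
  have hxr : x ^ r = 1 := hx ▸ pow_orderOf_eq_one x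
  have hxC : x ∈ D.C := mem_C_of_lt D hR hr hxr (by omega)
  have hsm : L.s ≤ D.m := by
    have h1 : L.s ^ 2 ≤ D.m * D.m := le_trans (Nat.pow_le_pow_right L.prime.pos L.two_le) L.le_sq
    rw [← sq] at h1
    exact (Nat.pow_le_pow_iff_left (by norm_num)).1 h1
  have hs2' := L.prime.two_le
  have hnc : ¬ ∀ b ∈ L.B, Commute x b := fun hall => by
    have hA : L.B ≤ D.A := fun a ha => L.ker a ha fun b hb => by
      have h1 := commute_of_irreducible
        (irreducible_of_primitive hR D.card_eq hd0 h hx) (hall b hb) (hall a ha)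
      exact hR (by rw [map_mul, map_mul]; exact h1.eq)
    have h1 := Subgroup.relIndex_eq_one.2 hA
    rw [L.relIndex_eq] at h1
    have h2 : L.s ≤ L.s ^ L.n := Nat.le_self_pow (by have := L.two_le; omega) _
    omega
  obtain ⟨i, hi, hin, hri⟩ := L.prime_bound hxC hr (by omega) (by omega) hxr hnc
  have hsi : L.s ^ i ≤ D.m := by
    have h1 : L.s ^ (2 * i) ≤ D.m * D.m := le_trans (Nat.pow_le_pow_right L.prime.pos hin) L.le_sq
    rw [mul_comm 2 i, pow_mul, ← sq] at h1
    exact (Nat.pow_le_pow_iff_left (by norm_num)).1 h1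
  have hm_eq : D.m = L.s ^ i := by omega
  have hr_eq : r = L.s ^ i + 1 := by omega
  have hl1 : D.l = 1 := by
    by_contra hne
    have : 2 * D.m ≤ D.l * D.m := Nat.mul_le_mul_right _ (by have := D.l_ne; omega)
    omega
  have hn : L.n = 2 * i := by
    refine le_antisymm ((Nat.pow_le_pow_iff_right L.prime.one_lt).1 ?_) hin
    rw [mul_comm 2 i, pow_mul, ← hm_eq, sq]
    exact L.le_sq
  have hs2 : L.s = 2 := by
    by_contra hne
    have h1 : Odd (L.s ^ i) := (L.prime.odd_of_ne_two hne).pow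
    have h2 : Even r := by rw [hr_eq]; exact h1.add_one
    have := hr.even_iff.1 h2
    omega
  have hfull : L.s ^ L.n = D.m * D.m := by rw [hn, mul_comm 2 i, pow_mul, ← hm_eq, sq]
  refine ⟨hl1, hs2, ⟨i, hi, hn, by rw [hr_eq, hs2]⟩, hfull, fun h1 => hnc ?_⟩
  have hxs := L.pow_mem x (L.mem_B_of_actLin_eq_one hR hfull hxC h1)
  have hc : Nat.Coprime r L.s := (Nat.coprime_primes hr L.prime).2 (by omega)
  have hxA : x ∈ D.A := by
    rw [← QuotientGroup.eq_one_iff]
    have h2 : (x : G ⧸ D.A) ^ r = 1 := by rw [← QuotientGroup.mk_pow, hxr, QuotientGroup.mk_one]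
    have h3 : (x : G ⧸ D.A) ^ L.s = 1 := by
      rwa [← QuotientGroup.mk_pow, QuotientGroup.eq_one_iff]
    have h4 := pow_gcd_eq_one.2 ⟨h2, h3⟩
    rwa [hc, pow_one] at h4
  exact fun b hb => D.commute_of_mem (L.le_C hb) hxA

/-- The commutative normal subgroup of a frame acts without fixed vectors. -/
theorem surjective_sub_one (D : Frame R) (hR : Function.Injective R) {a : G} (ha : a ∈ D.A)
    (h1 : a ≠ 1) : Function.Bijective fun v : V => R a v - v := by
  obtain ⟨z, hz⟩ := D.mem_range a ha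
  have hz1 : z - 1 ≠ 0 := sub_ne_zero.2 fun e => h1 (hR (by rw [← hz, e, map_one, map_one]))
  have hL : ∀ v, R a v - v = D.φ (z - 1) v := fun v => by
    rw [map_sub, map_one, LinearMap.sub_apply, hz, Module.End.one_apply]
  have key : ∀ (y : GaloisField p D.l) v, y ≠ 0 → D.φ y (D.φ y⁻¹ v) = v ∧ D.φ y⁻¹ (D.φ y v) = v :=
    fun y v hy => by
      constructor <;> rw [← Module.End.mul_apply, ← map_mul]
      · rw [mul_inv_cancel₀ hy, map_one, Module.End.one_apply]
      · rw [inv_mul_cancel₀ hy, map_one, Module.End.one_apply]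
  refine ⟨fun v w h => ?_, fun v => ⟨D.φ (z - 1)⁻¹ v, ?_⟩⟩
  · simp only [hL] at h
    have h2 := congrArg (D.φ (z - 1)⁻¹) h
    rwa [(key _ v hz1).2, (key _ w hz1).2] at h2
  · beta_reduce
    rw [hL, (key _ v hz1).1]

theorem eq_one_of_fix (D : Frame R) (hR : Function.Injective R) {a : G} (ha : a ∈ D.A) {v : V}
    (hv : v ≠ 0) (hfix : R a v = v) : a = 1 := by
  by_contra h1
  exact hv ((surjective_sub_one D hR ha h1).1
    (show R a v - v = R a 0 - 0 by rw [hfix, map_zero, sub_self, sub_self]))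

theorem isCyclic_A (D : Frame R) (hR : Function.Injective R) : IsCyclic D.A := by
  classical
  let f : D.A →* D.K :=
    { toFun := fun a => (D.mem_range a a.2).choose
      map_one' := D.φ_injective ((D.mem_range _ (1 : D.A).2).choose_spec.trans (by simp))
      map_mul' := fun a b => D.φ_injective (by
        rw [(D.mem_range _ (a * b).2).choose_spec, map_mul, (D.mem_range _ a.2).choose_spec,
          (D.mem_range _ b.2).choose_spec, Subgroup.coe_mul, map_mul]) }
  exact isCyclic_of_injective_ringHom f fun a b h => Subtype.ext (hR (by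
    rw [← (D.mem_range _ a.2).choose_spec, ← (D.mem_range _ b.2).choose_spec]
    exact congrArg D.φ h))

omit [Finite G] in
/-- A subgroup missing an element of every Sylow subgroup has index divisible by the prime. -/
theorem dvd_index_of_forall [Finite G] {q : ℕ} [Fact q.Prime] (I : Subgroup G)
    (h : ∀ P : Sylow q G, ∃ g ∈ P, g ∉ I) : q ∣ I.index := by
  by_contra hI
  obtain ⟨S⟩ : Nonempty (Sylow q I) := inferInstance
  have hi : ¬ q ∣ ((S : Subgroup I).map I.subtype).index := by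
    rw [Subgroup.index_map_subtype]
    exact fun hd => ((Fact.out : q.Prime).dvd_mul.1 hd).elim S.not_dvd_index hI
  obtain ⟨g, hg, hgI⟩ := h ((S.2.map I.subtype).toSylow hi)
  obtain ⟨y, -, rfl⟩ := Subgroup.mem_map.1 hg
  exact hgI y.2

/-- Every Sylow subgroup has a non-trivial element fixing a non-zero vector, and is commutative. -/
def SylowFix (R : G →* Module.End (ZMod p) V) (q : ℕ) : Prop :=
  ∀ P : Sylow q G, (∃ g ∈ P, g ≠ 1 ∧ ∃ v : V, v ≠ 0 ∧ R g v = v) ∧
    ∀ a ∈ P, ∀ b ∈ P, a * b = b * a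

/-- Sylow subgroups for `2` cannot be commutative over a layer of exponent two. -/
theorem ne_two_of_layer (D : Frame R) (L : D.Layer) (hs : L.s = 2) (hC : D.C = ⊤) {q : ℕ}
    (hfix : SylowFix R q) : q ≠ 2 := by
  classical
  rintro rfl
  haveI : Fact (Nat.Prime 2) := ⟨Nat.prime_two⟩
  have hcen : ∀ a ∈ D.A, ∀ g : G, Commute a g := fun a ha g =>
    D.commute_of_mem (hC ▸ Subgroup.mem_top g) ha
  let T : Subgroup G :=
    { carrier := {b | b ∈ L.B ∧ ∃ k, b ^ 2 ^ k = 1}
      one_mem' := ⟨L.B.one_mem, 0, by simp⟩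
      mul_mem' := fun {a b} ⟨ha, i, hi⟩ ⟨hb, j, hj⟩ => ⟨L.B.mul_mem ha hb, by
        have hca := L.comm_mem b hb a ha
        have hsq : (a * b) ^ 2 = ⁅b, a⁆ * (a ^ 2 * b ^ 2) := by
          have e : b * a = ⁅b, a⁆ * (a * b) := by rw [commutatorElement_def]; group
          calc (a * b) ^ 2 = a * (b * a) * b := by rw [sq]; group
            _ = a * ⁅b, a⁆ * (a * b * b) := by rw [e]; group
            _ = ⁅b, a⁆ * (a ^ 2 * b ^ 2) := by rw [← (hcen _ hca a).eq, sq, sq]; group
        have hb2 : b ^ 2 ∈ D.A := by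
          have := L.pow_mem b hb
          rwa [hs] at this
        have hc2 : ⁅b, a⁆ ^ 2 = 1 := by
          have h1 : b * a * b⁻¹ = ⁅b, a⁆ * a := by rw [commutatorElement_def]; group
          have h2 : b ^ 2 * a * (b ^ 2)⁻¹ = ⁅b, a⁆ ^ 2 * a := by
            calc b ^ 2 * a * (b ^ 2)⁻¹ = b * (b * a * b⁻¹) * b⁻¹ := by rw [sq]; group
              _ = (b * ⁅b, a⁆) * a * b⁻¹ := by rw [h1]; group
              _ = (⁅b, a⁆ * b) * a * b⁻¹ := by rw [(hcen _ hca b).eq]
              _ = ⁅b, a⁆ * (b * a * b⁻¹) := by group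
              _ = ⁅b, a⁆ ^ 2 * a := by rw [h1, sq, mul_assoc]
          rw [(hcen _ hb2 a).eq, mul_inv_cancel_right] at h2
          exact mul_eq_right.1 h2.symm
        refine ⟨i + j + 1 + 1, ?_⟩
        have h3 : ∀ n, 2 ^ (n + 1) = 2 * 2 ^ n := fun n => pow_succ' 2 n
        have h4 : ⁅b, a⁆ ^ 2 ^ (i + j + 1) = 1 := by rw [h3, pow_mul, hc2, one_pow]
        have h5 : a ^ (2 * 2 ^ (i + j + 1)) = 1 := by
          rw [← h3, show i + j + 1 + 1 = i + (j + 2) by ring, pow_add, pow_mul, hi, one_pow]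
        have h6 : b ^ (2 * 2 ^ (i + j + 1)) = 1 := by
          rw [← h3, show i + j + 1 + 1 = j + (i + 2) by ring, pow_add, pow_mul, hj, one_pow]
        rw [h3, pow_mul, hsq, (hcen _ hca _).mul_pow,
          (hcen _ hb2 (a ^ 2)).symm.mul_pow, ← pow_mul, ← pow_mul, h4, h5, h6, one_mul, one_mul]⟩
      inv_mem' := fun {a} ⟨ha, i, hi⟩ => ⟨L.B.inv_mem ha, i, by rw [inv_pow, hi, inv_one]⟩ }
  have hT : IsPGroup 2 T := fun t => t.2.2.imp fun k hk => Subtype.ext hk
  obtain ⟨P, hP⟩ := hT.exists_le_sylow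
  have hsub : ∀ b ∈ L.B, ∃ a ∈ D.A, ∃ b' ∈ T, b = a * b' := by
    intro b hb
    obtain ⟨k, m, hm, he⟩ := Nat.exists_eq_pow_mul_and_not_dvd (orderOf_pos b).ne' 2 (by omega)
    obtain ⟨c, hc⟩ : Odd m := Nat.odd_iff.2 (Nat.two_dvd_ne_zero.1 hm)
    refine ⟨(b ^ (2 * c))⁻¹, inv_mem ?_, b ^ m, ⟨pow_mem hb m, k, ?_⟩, ?_⟩
    · rw [pow_mul]
      refine pow_mem ?_ c
      have := L.pow_mem b hb
      rwa [hs] at this
    · rw [← pow_mul, mul_comm, ← he, pow_orderOf_eq_one]
    · rw [hc, pow_succ b (2 * c), ← mul_assoc, inv_mul_cancel, one_mul]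
  have hall : L.B ≤ D.A := fun u hu => L.ker u hu fun v hv => by
    obtain ⟨a, ha, u', hu', rfl⟩ := hsub u hu
    obtain ⟨c, hc, v', hv', rfl⟩ := hsub v hv
    exact (hcen c hc (a * u')).mul_left
      ((hcen a ha v').symm.mul_right ((hfix P).2 v' (hP hv') u' (hP hu')))
  have h1 := Subgroup.relIndex_eq_one.2 hall
  rw [L.relIndex_eq, hs] at h1
  have h2 : 2 ≤ 2 ^ L.n := Nat.le_self_pow (by have := L.two_le; omega) 2
  omega

/-- The map induced on the quotient by the kernel is injective. -/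
theorem injective_quotient_lift {H M : Type*} [Group H] [Monoid M] (f : H →* M) :
    Function.Injective (QuotientGroup.lift f.ker f le_rfl) := by
  refine (injective_iff_map_eq_one _).2 fun a ha => ?_
  induction a using QuotientGroup.induction_on with | _ g => ?_
  rw [QuotientGroup.eq_one_iff, MonoidHom.mem_ker]
  exact ha

/-- The exceptional layer. -/
theorem exists_degree_of_layer (D : Frame R) (hR : Function.Injective R) [Group.IsSolvable G]
    (L : D.Layer) {q r : ℕ} (hq : q.Prime) (hr : r.Prime) (hqr : q ≠ r)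
    (hPq : SylowFix R q) (hPr : SylowFix R r) {ℓ : ℕ} [Fact ℓ.Prime]
    (hord : orderOf (p : ZMod ℓ) = D.l * D.m) {x : G} (hx : orderOf x = ℓ) :
    ∃ χ : IrrCharacter G, q * r ∣ charDegree (χ : G → ℂ) := by
  classical
  haveI := Fintype.ofFinite G
  have hℓ : ℓ.Prime := Fact.out
  obtain ⟨hl, hs, ⟨i, hi, hn, hℓi⟩, hfull, hx1⟩ := layer_data D hR L hord hx
  have hC : D.C = ⊤ := by
    have h1 := (D.index_C hR).1
    rw [hl] at h1
    exact Subgroup.index_eq_one.1 (Nat.dvd_one.1 h1)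
  have h2i : 2 * i < ℓ := by
    have h1 : ∀ k : ℕ, 2 * k < 2 ^ k + 1 := by
      intro k
      induction k with
      | zero => norm_num
      | succ k ih =>
        have : 1 ≤ 2 ^ k := Nat.one_le_two_pow
        rw [pow_succ]
        rcases k with _ | k
        · norm_num
        · have : 2 ≤ 2 ^ (k + 1) := Nat.le_self_pow (Nat.succ_ne_zero k) 2
          omega
    exact hℓi ▸ h1 i
  -- the faithful image on the layer
  let R' := QuotientGroup.lift L.actLin.ker L.actLin le_rfl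
  have hR' : Function.Injective R' := injective_quotient_lift L.actLin
  haveI : Nontrivial (Additive L.Quo) := by
    refine Finite.one_lt_card_iff_nontrivial.1 ?_
    rw [Nat.card_congr Additive.toMul]
    change 1 < D.A.relIndex L.B
    rw [L.relIndex_eq]
    exact Nat.one_lt_pow (by have := L.two_le; omega) L.prime.one_lt
  have hordW : orderOf (L.s : ZMod ℓ) = L.n := by
    rw [hs, hn]
    have hneg : ((2 : ℕ) : ZMod ℓ) ^ i = -1 := by
      have h1 : ((2 ^ i + 1 : ℕ) : ZMod ℓ) = 0 := by rw [← hℓi]; exact ZMod.natCast_self ℓ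
      push_cast at h1 ⊢
      exact eq_neg_of_add_eq_zero_left h1
    have h2 : ((2 : ℕ) : ZMod ℓ) ^ (2 * i) = 1 := by rw [mul_comm, pow_mul, hneg, neg_one_sq]
    obtain ⟨c, hc⟩ := orderOf_dvd_of_pow_eq_one h2
    set o := orderOf ((2 : ℕ) : ZMod ℓ) with ho
    have ho0 : 0 < o := Nat.pos_of_ne_zero fun e => by rw [e, zero_mul] at hc; omega
    have hle : ℓ ≤ 2 ^ o - 1 := by
      refine Nat.le_of_dvd ?_ ?_
      · have := Nat.le_self_pow ho0.ne' 2
        omega
      · rw [← ZMod.natCast_eq_zero_iff, Nat.cast_sub Nat.one_le_two_pow, Nat.cast_pow,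
          pow_orderOf_eq_one, Nat.cast_one, sub_self]
    have hio : i < o := by
      refine (Nat.pow_lt_pow_iff_right (by norm_num : 1 < 2)).1 ?_
      omega
    rcases c with _ | _ | c
    · omega
    · omega
    · have : 2 * o ≤ o * (c + 1 + 1) := by rw [mul_comm]; exact Nat.mul_le_mul_left _ (by omega)
      omega
  have hx' : orderOf (x : G ⧸ L.actLin.ker) = ℓ := by
    refine orderOf_eq_prime (by rw [← QuotientGroup.mk_pow, ← hx, pow_orderOf_eq_one,
      QuotientGroup.mk_one]) fun e => hx1 ?_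
    rwa [QuotientGroup.eq_one_iff, MonoidHom.mem_ker] at e
  have hcardW : Nat.card (Additive L.Quo) = L.s ^ L.n := by
    rw [Nat.card_congr Additive.toMul]
    exact L.relIndex_eq
  obtain ⟨D'⟩ := exists_frame_of_irreducible R' hℓ
    (by rw [← hx']; exact pow_orderOf_eq_one (x : G ⧸ L.actLin.ker))
    (irreducible_of_primitive hR' hcardW (by omega) hordW hx') (by rw [L.finrank_eq, hn]; exact h2i)
  have hlm : D'.l * D'.m = L.n :=
    Nat.pow_right_injective L.prime.two_le (D'.card_eq.symm.trans hcardW)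
  have hCA : D'.C = D'.A := by
    by_contra hne
    obtain ⟨L'⟩ := exists_layer_of_lt D' hR' inferInstance (lt_of_le_of_ne D'.A_le_C (Ne.symm hne))
    obtain ⟨hl', hs', -⟩ := layer_data D' hR' L' (hordW.trans hlm.symm) hx'
    have h1 := L'.dvd
    rw [hs', hl', hs] at h1
    norm_num at h1
  obtain ⟨j, hj⟩ := Nat.pow_of_pow_add_prime (by norm_num) hi.ne' (hℓi ▸ hℓ)
  have hindex : ∀ {u : ℕ}, u.Prime → u ≠ 2 → ¬ u ∣ D'.A.index := fun {u} hu hu2 hd => by
    have h1 : u ∣ 2 * i := hn ▸ hlm ▸ (hCA ▸ hd).trans ((D'.index_C hR').1.trans (dvd_mul_right _ _))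
    rw [hj, ← pow_succ'] at h1
    exact hu2 ((Nat.prime_dvd_prime_iff_eq hu Nat.prime_two).1 (hu.dvd_of_dvd_pow h1))
  -- a linear character of the layer
  obtain ⟨w, hw⟩ := exists_ne (0 : Additive L.Quo)
  obtain ⟨ν, hν⟩ := CharsMore.FullyRamified.exists_hom_ne_one (c := Additive.toMul w) fun e => hw
    (Additive.toMul.injective e)
  set θ := CharsMore.linFun (ν.comp (QuotientGroup.mk' (D.A.subgroupOf L.B))) with hθ
  obtain ⟨χ, hχ⟩ := exists_dvd_degree_of_inertia L.B (CharsMore.isIrrCharacter_linFun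
    (ν.comp (QuotientGroup.mk' (D.A.subgroupOf L.B))))
  have key : ∀ {u : ℕ}, u.Prime → SylowFix R u →
      u ∣ (CharsMore.inertia L.B θ).index := by
    intro u hu hP
    haveI : Fact u.Prime := ⟨hu⟩
    have hu2 := ne_two_of_layer D L hs hC hP
    refine dvd_index_of_forall _ fun P => ?_
    obtain ⟨⟨g, hgP, hg1, v, hv, hgv⟩, -⟩ := hP P
    refine ⟨g, hgP, fun hgI => ?_⟩
    obtain ⟨k, hk⟩ := P.2 ⟨g, hgP⟩
    have hk' : g ^ u ^ k = 1 := congrArg Subtype.val hk
    have hgk : L.actLin g ≠ 1 := fun e => by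
      have hgs := L.pow_mem g (L.mem_B_of_actLin_eq_one hR hfull (hC ▸ Subgroup.mem_top g) e)
      refine hg1 (eq_one_of_fix D hR ?_ hv hgv)
      rw [← QuotientGroup.eq_one_iff]
      have h2 : (g : G ⧸ D.A) ^ u ^ k = 1 := by
        rw [← QuotientGroup.mk_pow, hk', QuotientGroup.mk_one]
      have h3 : (g : G ⧸ D.A) ^ L.s = 1 := by
        rwa [← QuotientGroup.mk_pow, QuotientGroup.eq_one_iff]
      have h4 := pow_gcd_eq_one.2 ⟨h2, h3⟩
      have hc : Nat.Coprime (u ^ k) L.s :=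
        Nat.Coprime.pow_left k ((Nat.coprime_primes hu L.prime).2 (hs ▸ hu2))
      rwa [hc, pow_one] at h4
    obtain ⟨k', -, hk''⟩ := (Nat.dvd_prime_pow hu).1
      (orderOf_dvd_of_pow_eq_one (x := (g : G ⧸ L.actLin.ker))
        (by rw [← QuotientGroup.mk_pow, hk', QuotientGroup.mk_one]))
    have hmem : (g : G ⧸ L.actLin.ker) ∈ D'.A := mem_of_not_dvd_index hu (hindex hu hu2) hk''
    have hne : (g : G ⧸ L.actLin.ker) ≠ 1 := fun e => hgk (by
      rwa [QuotientGroup.eq_one_iff, MonoidHom.mem_ker] at e)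
    obtain ⟨y, hy⟩ := (surjective_sub_one D' hR' hmem hne).2 w
    refine hν ?_
    have h1 : L.act g y.toMul * y.toMul⁻¹ = w.toMul :=
      congrArg Additive.toMul (show L.actLin g y - y = w from hy) ▸ (div_eq_mul_inv _ _).symm
    rw [← h1, map_mul, map_inv, mul_inv_eq_one]
    induction y.toMul using QuotientGroup.induction_on with | _ b => ?_
    rw [L.act_mk]
    have h2 := (CharsMore.mem_inertia L.B).1 hgI b
    simp only [hθ, CharsMore.linFun] at h2
    rw [show (MulAut.conjNormal g b : L.B) = CharsMore.conjBy L.B g b from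
      Subtype.ext (MulAut.conjNormal_apply g b)]
    exact Units.ext h2
  exact ⟨χ, (((Nat.coprime_primes hq hr).2 hqr).mul_dvd_of_dvd_of_dvd (key hq hPq)
    (key hr hPr)).trans hχ⟩

/-- A group with an irreducible element of primitive prime order. -/
theorem exists_degree_of_primitive (hR : Function.Injective R) [Group.IsSolvable G] {q r : ℕ}
    (hq : q.Prime) (hr : r.Prime) (hqr : q ≠ r) (hPq : SylowFix R q) (hPr : SylowFix R r)
    {d : ℕ} (hd : 0 < d) (hV : Nat.card V = p ^ d) {ℓ : ℕ} [Fact ℓ.Prime]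
    (hord : orderOf (p : ZMod ℓ) = d) (hdvd : ℓ ∣ Nat.card G) :
    ∃ χ : IrrCharacter G, q * r ∣ charDegree (χ : G → ℂ) := by
  classical
  haveI := Fintype.ofFinite G
  have hp : p.Prime := Fact.out
  have hℓ : ℓ.Prime := Fact.out
  obtain ⟨x, hx⟩ := exists_prime_orderOf_dvd_card' ℓ hdvd
  obtain ⟨hdl, -⟩ := le_of_orderOf hord hd
  have hfr : Module.finrank (ZMod p) V = d := by
    refine Nat.pow_right_injective hp.two_le ?_
    have h1 := Module.natCard_eq_pow_finrank (K := ZMod p) (V := V)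
    rw [Nat.card_zmod, hV] at h1
    exact h1.symm
  obtain ⟨D⟩ := exists_frame_of_irreducible R hℓ (by rw [← hx]; exact pow_orderOf_eq_one x)
    (irreducible_of_primitive hR hV hd hord hx) (by omega)
  have hlm : D.l * D.m = d := Nat.pow_right_injective hp.two_le (D.card_eq.symm.trans hV)
  by_cases hCA : D.C = D.A
  · haveI := isCyclic_A D hR
    obtain ⟨μ, hμ⟩ := exists_injective_hom D.A
    obtain ⟨χ, hχ⟩ := exists_dvd_degree_of_inertia D.A (CharsMore.isIrrCharacter_linFun μ)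
    have hI : CharsMore.inertia D.A (CharsMore.linFun μ) ≤ D.A := by
      intro g hg
      rw [← hCA]
      refine Subgroup.mem_centralizer_iff.2 fun a ha => ?_
      have h1 := congrArg Subtype.val (hμ (Units.ext ((CharsMore.mem_inertia D.A).1 hg ⟨a, ha⟩)))
      simp only at h1
      calc a * g = g * a * g⁻¹ * g := by rw [show g * a * g⁻¹ = a from h1]
        _ = g * a := inv_mul_cancel_right _ _
    have key : ∀ {u : ℕ}, u.Prime → SylowFix R u →
        u ∣ (CharsMore.inertia D.A (CharsMore.linFun μ)).index := by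
      intro u hu hP
      haveI : Fact u.Prime := ⟨hu⟩
      refine dvd_index_of_forall _ fun P => ?_
      obtain ⟨⟨g, hgP, hg1, v, hv, hgv⟩, -⟩ := hP P
      exact ⟨g, hgP, fun hgI => hg1 (eq_one_of_fix D hR (hI hgI) hv hgv)⟩
    exact ⟨χ, (((Nat.coprime_primes hq hr).2 hqr).mul_dvd_of_dvd_of_dvd (key hq hPq)
      (key hr hPr)).trans hχ⟩
  · obtain ⟨L⟩ := exists_layer_of_lt D hR inferInstance (lt_of_le_of_ne D.A_le_C (Ne.symm hCA))
    exact exists_degree_of_layer D hR L hq hr hqr hPq hPr (hord.trans hlm.symm) hx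


end CfsgLib.CharApps.Palfy
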