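import Cfsg.Agent.Lib.CharApps.Palfy.CaseTwo
import Cfsg.Agent.Lib.CharApps.Inflation
import Cfsg.Agent.Lib.Base.MinimalNormal

/-!
Pálfy's theorem: among three primes dividing degrees of a solvable group two divide one degree.
-/

set_option autoImplicit false
set_option maxHeartbeats 400000

open scoped Pointwise commutatorElement

namespace CfsgLib.CharApps.Palfy

open Cfsg CfsgLib.CharsMore

universe u

variable {G : Type u} [Group G] [Fintype G] [Group.IsSolvable G]

/-- The inductive step: one of the primes divides no degree of the quotient by a minimal normal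
subgroup. -/
theorem false_of_quotient {s q r : ℕ} (hs : s.Prime) (hq : q.Prime) (hr : r.Prime) (hsq : s ≠ q)
    (hsr : s ≠ r) (hqr : q ≠ r) (N : Subgroup G) (hN : Base.IsMinimalNormal N)
    (hquot : ∀ [N.Normal], DegFree s (G ⧸ N))
    (hnsq : ∀ χ : IrrCharacter G, ¬ s * q ∣ charDegree (χ : G → ℂ))
    (hnsr : ∀ χ : IrrCharacter G, ¬ s * r ∣ charDegree (χ : G → ℂ))
    (hnqr : ∀ χ : IrrCharacter G, ¬ q * r ∣ charDegree (χ : G → ℂ))
    (hsd : ∃ χ : IrrCharacter G, s ∣ charDegree (χ : G → ℂ))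
    (hqd : ∃ χ : IrrCharacter G, q ∣ charDegree (χ : G → ℂ))
    (hrd : ∃ χ : IrrCharacter G, r ∣ charDegree (χ : G → ℂ)) : False := by
  classical
  haveI := hN.normal
  haveI := Fact.mk hs
  obtain ⟨t, ht, hNc, hNexp, hNp⟩ := hN.exists_prime inferInstance
  haveI := Fact.mk ht
  have hNab : ∀ a ∈ N, ∀ b ∈ N, a * b = b * a := fun a ha b hb =>
    congrArg Subtype.val (hNc.is_comm.comm ⟨a, ha⟩ ⟨b, hb⟩)
  obtain ⟨P, hPn, hPc, hPp, hPi⟩ :=
    (Cfsg.Agent.S4493.result (G := G ⧸ N) inferInstance s hs).2 hquot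
  haveI := hPn
  let M : Subgroup G := P.comap (QuotientGroup.mk' N)
  haveI : M.Normal := Subgroup.Normal.comap hPn _
  have hNM : N ≤ M := fun n hn => by
    change (n : G ⧸ N) ∈ P
    rw [(QuotientGroup.eq_one_iff n).2 hn]
    exact P.one_mem
  have hMi : ¬ s ∣ M.index := by
    rwa [Subgroup.index_comap_of_surjective _ (QuotientGroup.mk'_surjective N)]
  have hMc : ∀ a ∈ M, ∀ b ∈ M, ⁅a, b⁆ ∈ N := fun a ha b hb => by
    rw [← QuotientGroup.eq_one_iff]
    change QuotientGroup.mk' N ⁅a, b⁆ = 1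
    rw [map_commutatorElement]
    exact commutatorElement_eq_one_iff_mul_comm.2 (hPc _ ha _ hb)
  rcases eq_or_ne t s with rfl | hts
  · -- a normal Sylow subgroup with central derived subgroup
    have hMp : IsPGroup t M :=
      IsPGroup.comap_of_ker_isPGroup hPp _ (by rw [QuotientGroup.ker_mk']; exact hNp)
    let Z : Subgroup G := (commutator M).map M.subtype
    have hZ : Z.Normal := ⟨fun z hz g => by
      obtain ⟨y, hy, rfl⟩ := Subgroup.mem_map.1 hz
      exact Subgroup.mem_map.2 ⟨conjBy M g y, conj_mem_commutator M g hy, rfl⟩⟩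
    have hZN : Z ≤ N := by
      have h0 : commutator M ≤ N.subgroupOf M := by
        rw [commutator_def, Subgroup.commutator_le]
        intro a _ b _
        rw [Subgroup.mem_subgroupOf]
        exact hMc a a.2 b b.2
      rintro _ ⟨z, hz, rfl⟩
      exact h0 hz
    have hne : commutator M ≠ ⊥ := fun h0 => by
      refine false_of_abelian_normal M (fun a ha b hb => ?_) hMi hsd
      have h1 : ⁅(⟨a, ha⟩ : M), ⟨b, hb⟩⁆ ∈ commutator M :=
        Subgroup.commutator_mem_commutator (Subgroup.mem_top _) (Subgroup.mem_top _)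
      rw [h0, Subgroup.mem_bot, commutatorElement_eq_one_iff_mul_comm] at h1
      exact congrArg Subtype.val h1
    have hZeq : Z = N := (hN.eq_bot_or_eq hZ hZN).resolve_left fun h0 =>
      hne ((Subgroup.map_eq_bot_iff_of_injective _ M.subtype_injective).1 h0)
    -- the minimal normal subgroup is central
    let C : Subgroup G := N ⊓ Subgroup.centralizer (M : Set G)
    have hC : C = N := by
      refine (hN.eq_bot_or_eq inferInstance inf_le_left).resolve_left fun hC0 => ?_
      let _ : MulAction M N :=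
        { smul := fun m n => conjBy N (m : G) n
          one_smul := fun n => Subtype.ext (by
            change (((1 : M) : G) * (n : G) * ((1 : M) : G)⁻¹) = n
            simp)
          mul_smul := fun a b n => Subtype.ext (by
            change ((a * b : M) : G) * (n : G) * ((a * b : M) : G)⁻¹ =
              (a : G) * ((b : G) * (n : G) * (b : G)⁻¹) * (a : G)⁻¹
            simp [mul_assoc]) }
      obtain ⟨k, hk⟩ := hNp.exists_card_eq
      have hk0 : k ≠ 0 := fun e => hN.ne_bot (N.eq_bot_of_card_eq (by rw [hk, e, pow_zero]))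
      obtain ⟨n, hn, hn1⟩ := hMp.exists_fixed_point_of_prime_dvd_card_of_fixed_point N
        (hk ▸ dvd_pow_self t hk0) (a := 1) fun m => Subtype.ext (by
          change (m : G) * 1 * (m : G)⁻¹ = 1
          group)
      have hmem : (n : G) ∈ C := Subgroup.mem_inf.2 ⟨n.2, Subgroup.mem_centralizer_iff.2 fun m hm =>
        mul_inv_eq_iff_eq_mul.1 (congrArg Subtype.val (hn ⟨m, hm⟩))⟩
      exact hn1 (Subtype.ext ((Subgroup.eq_bot_iff_forall _).1 hC0 _ hmem).symm)
    refine false_of_central_derived hq hr hsq hsr hqr M hMp hMi (fun z hz => ?_)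
      (fun z => ?_) hne hnsq hnsr hnqr hqd hrd
    · have hzN : (z : G) ∈ C := hC.ge (hZeq ▸ Subgroup.mem_map_of_mem _ hz)
      exact Subgroup.mem_center_iff.2 fun m =>
        Subtype.ext (Subgroup.mem_centralizer_iff.1 (Subgroup.mem_inf.1 hzN).2 m m.2)
    · exact Subtype.ext (Subtype.ext (hNexp _ (hZeq ▸ Subgroup.mem_map_of_mem _ z.2)))
  · -- a complemented minimal normal subgroup
    obtain ⟨S⟩ : Nonempty (Sylow s G) := inferInstance
    have hSM : (S : Subgroup G) ≤ M := fun a ha => by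
      obtain ⟨k, hk⟩ := S.2 ⟨a, ha⟩
      obtain ⟨k', -, hk'⟩ := (Nat.dvd_prime_pow hs).1
        (orderOf_dvd_of_pow_eq_one (x := a) (congrArg Subtype.val hk))
      exact mem_of_not_dvd_index hs hMi hk'
    have hdisj : Disjoint N (S : Subgroup G) := IsPGroup.disjoint_of_ne t s hts _ _ hNp S.2
    have hSab : ∀ a ∈ S, ∀ b ∈ S, a * b = b * a := fun a ha b hb =>
      commutatorElement_eq_one_iff_mul_comm.1 (Subgroup.disjoint_def.1 hdisj
        (hMc a (hSM ha) b (hSM hb)) (by
          rw [commutatorElement_def]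
          exact mul_mem (mul_mem (mul_mem (s := (S : Subgroup G)) ha hb) (inv_mem ha)) (inv_mem hb)))
    have hM : M = N ⊔ (S : Subgroup G) := by
      refine le_antisymm (Subgroup.relIndex_eq_one.1 ?_) (sup_le hNM hSM)
      have h1 : (N ⊔ (S : Subgroup G)).relIndex M ∣ N.relIndex M :=
        Subgroup.relIndex_dvd_of_le_left M le_sup_left
      have h2 : N.relIndex M = Nat.card P := by
        have h3 := Subgroup.relIndex_comap (⊥ : Subgroup (G ⧸ N)) (QuotientGroup.mk' N) M
        rw [MonoidHom.comap_bot, QuotientGroup.ker_mk',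
          Subgroup.map_comap_eq_self_of_surjective (QuotientGroup.mk'_surjective N),
          Subgroup.relIndex_bot_left] at h3
        exact h3
      obtain ⟨k, hk⟩ := hPp.exists_card_eq
      rw [h2, hk] at h1
      have h4 : ¬ s ∣ (N ⊔ (S : Subgroup G)).relIndex M := fun hd => S.not_dvd_index
        ((hd.trans (Subgroup.relIndex_dvd_of_le_left M le_sup_right)).trans
          (dvd_of_mul_right_eq _ (Subgroup.relIndex_mul_index hSM)))
      obtain ⟨j, -, hj⟩ := (Nat.dvd_prime_pow hs).1 h1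
      rcases Nat.eq_zero_or_pos j with rfl | hj0
      · simpa using hj
      · exact absurd (hj ▸ dvd_pow_self s hj0.ne') h4
    let L : Subgroup G := Subgroup.normalizer ((S : Subgroup G) : Set G)
    have hSL : (S : Subgroup G) ≤ L := Subgroup.le_normalizer
    have hconjS : ∀ l ∈ L, ∀ a ∈ S, l * a * l⁻¹ ∈ S := fun l hl a ha =>
      (Subgroup.mem_normalizer_iff.1 hl a).1 ha
    have hNL : N ⊔ L = ⊤ := by
      refine eq_top_iff.2 ((S.normalizer_sup_eq_top' hSM).symm.le.trans (sup_le le_sup_right ?_))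
      rw [hM]
      exact sup_le le_sup_left (hSL.trans le_sup_right)
    have hdec : ∀ g : G, ∃ n ∈ N, ∃ l ∈ L, g = n * l := fun g => by
      obtain ⟨n, hn, l, hl, e⟩ := Subgroup.mem_sup_of_normal_left.1
        (hNL.symm ▸ Subgroup.mem_top g : g ∈ N ⊔ L)
      exact ⟨n, hn, l, hl, e.symm⟩
    have hcommS : ¬ ∀ n ∈ N, ∀ a ∈ S, n * a = a * n := fun hcom => by
      refine false_of_abelian_normal M (fun a ha b hb => ?_) hMi hsd
      obtain ⟨n₁, hn₁, a₁, ha₁, rfl⟩ := Subgroup.mem_sup_of_normal_left.1 (hM ▸ ha)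
      obtain ⟨n₂, hn₂, a₂, ha₂, rfl⟩ := Subgroup.mem_sup_of_normal_left.1 (hM ▸ hb)
      exact Commute.mul_left (Commute.mul_right (hNab _ hn₁ _ hn₂) (hcom _ hn₁ _ ha₂))
        (Commute.mul_right (hcom _ hn₂ _ ha₁).symm (hSab _ ha₁ _ ha₂))
    -- subgroups of `N` normalised by `L` are normal
    have hnormal : ∀ K : Subgroup G, K ≤ N → (∀ l ∈ L, ∀ k ∈ K, l * k * l⁻¹ ∈ K) → K.Normal := by
      intro K hK hconj
      refine ⟨fun k hk g => ?_⟩
      obtain ⟨n, hn, l, hl, rfl⟩ := hdec g
      have h1 := hconj l hl k hk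
      have e : n * l * k * (n * l)⁻¹ = n * (l * k * l⁻¹) * n⁻¹ := by group
      rw [e, hNab n hn _ (hK h1), mul_inv_cancel_right]
      exact h1
    let C : Subgroup G := N ⊓ Subgroup.centralizer (S : Set G)
    have hC : C = ⊥ := by
      refine (hN.eq_bot_or_eq (hnormal C inf_le_left fun l hl k hk => ?_) inf_le_left).resolve_right
        fun hCN => hcommS fun n hn a ha =>
          (Subgroup.mem_centralizer_iff.1 (Subgroup.mem_inf.1 (hCN.ge hn : n ∈ C)).2 a ha).symm
      obtain ⟨hkN, hkS⟩ := Subgroup.mem_inf.1 hk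
      refine Subgroup.mem_inf.2 ⟨hN.normal.conj_mem k hkN l,
        Subgroup.mem_centralizer_iff.2 fun a ha => ?_⟩
      have h1 := Subgroup.mem_centralizer_iff.1 hkS _ (hconjS _ (inv_mem hl) a ha)
      calc a * (l * k * l⁻¹) = l * ((l⁻¹ * a * l⁻¹⁻¹) * k) * l⁻¹ := by group
        _ = l * (k * (l⁻¹ * a * l⁻¹⁻¹)) * l⁻¹ := by rw [h1]
        _ = l * k * l⁻¹ * a := by group
    have hNLd : Disjoint N L := Subgroup.disjoint_def.2 fun {n} hn hl => by
      refine (Subgroup.eq_bot_iff_forall _).1 hC n (Subgroup.mem_inf.2 ⟨hn,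
        Subgroup.mem_centralizer_iff.2 fun a ha => ?_⟩)
      have h1 : ⁅n, a⁆ = 1 := Subgroup.disjoint_def.1 hdisj
        (by
          rw [commutatorElement_def, show n * a * n⁻¹ * a⁻¹ = n * (a * n⁻¹ * a⁻¹) by group]
          exact mul_mem hn (hN.normal.conj_mem _ (inv_mem hn) a))
        (by
          rw [commutatorElement_def]
          exact mul_mem (s := (S : Subgroup G)) (hconjS n hl a ha) (inv_mem ha))
      exact (commutatorElement_eq_one_iff_mul_comm.1 h1).symm
    have hcompl : N.IsComplement' L := Subgroup.isComplement'_of_disjoint_and_mul_eq_univ hNLd (by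
      rw [← Subgroup.normal_mul, hNL, Subgroup.coe_top])
    refine false_of_complement (t := t) hs hq hr hsq hsr hqr N L hcompl hNab hNexp hN.ne_bot
      (fun μ hμ => ?_) hnsq hnsr hnqr hqd hrd
    by_contra hI
    rw [← index_subgroupOf_compl hcompl (le_inertia N (Chars.isClassFunction_irr
      ⟨linFun μ, isIrrCharacter_linFun μ⟩))] at hI
    let SL : Sylow s L := S.subtype hSL
    haveI hSLn : (SL : Subgroup L).Normal := ⟨fun a ha l => hconjS l l.2 a ha⟩
    haveI := Sylow.unique_of_normal SL hSLn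
    have hSI : ∀ a ∈ S, a ∈ inertia N (linFun μ) := fun a ha => by
      by_contra hno
      exact hI (dvd_index_of_forall _ fun Q => ⟨⟨a, hSL ha⟩,
        by rw [Subsingleton.elim Q SL]; exact ha, hno⟩)
    have hD : ⁅N, (S : Subgroup G)⁆ ≤ N := Subgroup.commutator_le_left _ _
    have hker : ⁅N, (S : Subgroup G)⁆ ≤ μ.ker.map N.subtype := by
      rw [Subgroup.commutator_le]
      intro n hn a ha
      have h1 : μ (conjBy N a (⟨n, hn⟩ : N)⁻¹) = μ (⟨n, hn⟩ : N)⁻¹ :=
        Units.ext ((mem_inertia N).1 (hSI a ha) _)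
      refine Subgroup.mem_map.2 ⟨⟨n, hn⟩ * conjBy N a (⟨n, hn⟩ : N)⁻¹, ?_, ?_⟩
      · rw [MonoidHom.mem_ker, map_mul, h1, map_inv, mul_inv_cancel]
      · change n * (a * n⁻¹ * a⁻¹) = ⁅n, a⁆
        rw [commutatorElement_def]
        group
    have hDconj : ∀ l ∈ L, ∀ k ∈ ⁅N, (S : Subgroup G)⁆, l * k * l⁻¹ ∈ ⁅N, (S : Subgroup G)⁆ := by
      intro l hl k hk
      have h2 : ⁅N, (S : Subgroup G)⁆.map (MulAut.conj l).toMonoidHom ≤ ⁅N, (S : Subgroup G)⁆ := by
        rw [Subgroup.map_commutator]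
        refine Subgroup.commutator_mono ?_ ?_
        · rintro _ ⟨n, hn, rfl⟩
          exact hN.normal.conj_mem n hn l
        · rintro _ ⟨a, ha, rfl⟩
          exact hconjS l hl a ha
      exact h2 ⟨k, hk, rfl⟩
    rcases hN.eq_bot_or_eq (hnormal _ hD hDconj) hD with h0 | h1
    · refine hcommS fun n hn a ha => commutatorElement_eq_one_iff_mul_comm.1 ?_
      have h2 := Subgroup.commutator_mem_commutator hn (ha : a ∈ (S : Subgroup G))
      rwa [h0, Subgroup.mem_bot] at h2
    · refine hμ (MonoidHom.ext fun n => ?_)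
      obtain ⟨y, hy, e⟩ := Subgroup.mem_map.1 (hker (h1.ge n.2))
      rw [← Subtype.ext e, MonoidHom.one_apply]
      exact MonoidHom.mem_ker.1 hy

omit [Fintype G] in
/-- Pálfy's three primes theorem, by contradiction. -/
theorem false_of_three : ∀ (n : ℕ) {G : Type u} [Group G] [Finite G] [Group.IsSolvable G],
    Nat.card G = n → ∀ {p q r : ℕ}, p.Prime → q.Prime → r.Prime → p ≠ q → q ≠ r → p ≠ r →
    (∀ χ : IrrCharacter G, ¬ p * q ∣ charDegree (χ : G → ℂ)) →
    (∀ χ : IrrCharacter G, ¬ q * r ∣ charDegree (χ : G → ℂ)) →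
    (∀ χ : IrrCharacter G, ¬ p * r ∣ charDegree (χ : G → ℂ)) →
    (∃ χ : IrrCharacter G, p ∣ charDegree (χ : G → ℂ)) →
    (∃ χ : IrrCharacter G, q ∣ charDegree (χ : G → ℂ)) →
    (∃ χ : IrrCharacter G, r ∣ charDegree (χ : G → ℂ)) → False := by
  intro n
  induction n using Nat.strong_induction_on with
  | _ n ih =>
    intro G _ _ _ hn p q r hp hq hr hpq hqr hpr h1 h2 h3 hpd hqd hrd
    classical
    haveI := Fintype.ofFinite G
    haveI : Nontrivial G := by
      by_contra hno
      rw [not_nontrivial_iff_subsingleton] at hno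
      obtain ⟨χ, hχ⟩ := hpd
      have h4 := Chars.irr_abelian_degree (A := G) (fun a b => Subsingleton.elim _ _) χ.2
      have h5 : charDegree (χ : G → ℂ) = 1 := by simp [charDegree, h4]
      exact hp.ne_one (Nat.dvd_one.1 (h5 ▸ hχ))
    obtain ⟨N, hN⟩ := Base.exists_isMinimalNormal (G := G)
    haveI := hN.normal
    have hlt : Nat.card (G ⧸ N) < n := by
      rw [← hn, Subgroup.card_eq_card_quotient_mul_card_subgroup N]
      exact lt_mul_of_one_lt_right Nat.card_pos
        (N.one_lt_card_iff_ne_bot.2 hN.ne_bot)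
    have hinf : ∀ {a : ℕ}, (∀ χ : IrrCharacter G, ¬ a ∣ charDegree (χ : G → ℂ)) →
        ∀ ψ : IrrCharacter (G ⧸ N), ¬ a ∣ charDegree (ψ : G ⧸ N → ℂ) := fun h ψ hd =>
      h (inflate N ψ) (by rwa [inflate_charDegree])
    have hmul : ∀ {a b : ℕ}, (∀ χ : IrrCharacter G, ¬ a * b ∣ charDegree (χ : G → ℂ)) →
        ∀ χ : IrrCharacter G, ¬ b * a ∣ charDegree (χ : G → ℂ) := fun h χ => by
      rw [mul_comm]
      exact h χ
    by_cases hp' : DegFree p (G ⧸ N)
    · exact false_of_quotient hp hq hr hpq hpr hqr N hN (fun {_} => hp') h1 h3 h2 hpd hqd hrd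
    by_cases hq' : DegFree q (G ⧸ N)
    · exact false_of_quotient hq hp hr (Ne.symm hpq) hqr hpr N hN (fun {_} => hq') (hmul h1) h2 h3
        hqd hpd hrd
    by_cases hr' : DegFree r (G ⧸ N)
    · exact false_of_quotient hr hp hq (Ne.symm hpr) (Ne.symm hqr) hpq N hN (fun {_} => hr')
        (hmul h3) (hmul h2) h1 hrd hpd hqd
    simp only [DegFree, not_forall, not_not] at hp' hq' hr'
    exact ih _ hlt rfl hp hq hr hpq hqr hpr (hinf h1) (hinf h2) (hinf h3) hp' hq' hr'

end CfsgLib.CharApps.Palfy
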